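/-
Sets of subgroups of odd prime order, any two of which generate an extension of a `q`-group (helper27, S3257):
definitions and the structure of the subgroups generated by members.
-/
import Cfsg.Agent.Even.CharP
import Cfsg.Agent.Odd.BG6a
import Cfsg.Agent.Grp.Coprime2

set_option autoImplicit false

open Cfsg Subgroup CL.Grp CL.Even
open scoped commutatorElement Pointwise

namespace CL.FSet

variable {G : Type*} [Group G]

/-- the derived subgroup -/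
abbrev dr (H : Subgroup G) : Subgroup G := ⁅H, H⁆

/-- the subgroup generated by the members of `D` inside `K` -/
def dg (D : Set (Subgroup G)) (K : Subgroup G) : Subgroup G := sSup {A | A ∈ D ∧ A ≤ K}

/-- commutators in `[Q, A]` are fixed by `A` -/
def Alt (q : ℕ) (D : Set (Subgroup G)) : Prop := 
  ∀ A ∈ D, ∀ Q : Subgroup G, IsPGroup q Q → A ≤ 𝒩(Q) → dr ⁅Q, A⁆ ≤ 𝒞(A)

structure Hyp (p q : ℕ) (D : Set (Subgroup G)) : Prop where
  pp : p.Prime
  qp : q.Prime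
  p2 : p ≠ 2
  q2 : q ≠ 2
  pq : p ≠ q
  card : ∀ A ∈ D, Nat.card A = p
  inv : ∀ A ∈ D, ∀ g, cj g A ∈ D
  lq : ∀ A ∈ D, ∀ B ∈ D, IsPGroup q (dr (A ⊔ B))
  lc : ∀ A ∈ D, ∀ B ∈ D, ∃ k ∈ dr (A ⊔ B), cj k A = B
  alt : (∀ A ∈ D, ∀ B ∈ D, dr (dr (A ⊔ B)) = ⊥) ∨ Alt q D

/-- `H` is generated by members of `D` and its derived subgroup is a `q`-group -/
structure Sub (q : ℕ) (D : Set (Subgroup G)) (H : Subgroup G) : Prop where
  gen : dg D H = H
  der : IsPGroup q (dr H)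

variable {p q : ℕ} {D : Set (Subgroup G)} {A B H K : Subgroup G} {g u : G}

theorem dr_le (H : Subgroup G) : dr H ≤ H := commutator_le_of_le_norm le_normalizer

theorem dr_mono (h : H ≤ K) : dr H ≤ dr K := commutator_mono h h

theorem n_dr (h : K ≤ 𝒩(H)) : K ≤ 𝒩(dr H) := le_norm_commutator h h

theorem n_of_dr (h1 : dr H ≤ K) (h2 : K ≤ H) : H ≤ 𝒩(K) :=
  le_norm_of_commutator_le ((commutator_mono h2 le_rfl).trans h1)

theorem dr_sup_le (h : A ≤ 𝒩(K)) (hA : A ≤ 𝒞(A)) : dr (K ⊔ A) ≤ K :=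
  commutator_sup_le' le_normalizer h (commutator_le_of_le_norm (sup_le le_normalizer h))
    (commutator_sup_le le_normalizer h (commutator_le_of_le_norm' h)
      ((commutator_eq_bot_iff'.2 hA).le.trans bot_le))

theorem dg_le : dg D K ≤ K := sSup_le fun _ h => h.2

theorem le_dg (hA : A ∈ D) (h : A ≤ K) : A ≤ dg D K := le_sSup ⟨hA, h⟩

theorem dg_le_of (h : ∀ A ∈ D, A ≤ K → A ≤ H) : dg D K ≤ H := sSup_le fun A k => h A k.1 k.2

theorem dg_mono (h : H ≤ K) : dg D H ≤ dg D K := dg_le_of fun _ a b => le_dg a (b.trans h)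

theorem dg_dg : dg D (dg D K) = dg D K := le_antisymm dg_le (dg_le_of fun _ a b => le_dg a (le_dg a b))

theorem dg_line (hA : A ∈ D) (hB : B ∈ D) : dg D (A ⊔ B) = A ⊔ B :=
  le_antisymm dg_le (sup_le (le_dg hA le_sup_left) (le_dg hB le_sup_right))

theorem le_dg_of (h : dg D H = H) (k : H ≤ K) : H ≤ dg D K := h.ge.trans (dg_mono k)

theorem pr_isP (hA : Nat.card A = p) : IsPGroup p A := .of_card (n := 1) (by rw [hA, pow_one])

theorem pr_le (hp : p.Prime) (hA : Nat.card A = p) (hu : u ∈ A) (h1 : u ≠ 1) (k : u ∈ K) : A ≤ K := by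
  have : Finite A := Nat.finite_of_card_ne_zero (hA ▸ hp.ne_zero)
  have e := card_dvd_of_le (inf_le_left : A ⊓ K ≤ A)
  rw [hA] at e
  rcases (Nat.dvd_prime hp).1 e with j | j
  · exact absurd (mem_bot.1 (eq_bot_of_card_eq _ j ▸ (⟨hu, k⟩ : u ∈ A ⊓ K))) h1
  · exact inf_eq_left.1 (eq_of_le_of_card_ge inf_le_left (j.trans hA.symm).ge)

theorem pr_ex (hp : p.Prime) (hA : Nat.card A = p) : ∃ a ∈ A, a ≠ 1 := by
  by_contra! k
  rw [(eq_bot_iff_forall A).2 k, card_bot] at hA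
  exact hp.one_lt.ne hA

theorem pr_comm (hp : p.Prime) (hA : Nat.card A = p) : A ≤ 𝒞(A) := by
  obtain ⟨a, ha, a1⟩ := pr_ex hp hA
  have e := pr_le hp hA ha a1 (mem_zpowers a)
  intro x hx y hy
  obtain ⟨m, rfl⟩ := e hx
  obtain ⟨n, rfl⟩ := e hy
  exact zpow_mul_comm a n m

theorem pr_disj (hp : p.Prime) (hA : Nat.card A = p) (k : ¬ A ≤ K) : Disjoint A K :=
  disjoint_def.2 fun a b => by_contra fun c => k (pr_le hp hA a c b)

namespace Hyp

theorem cj_dg_le (h : Hyp p q D) (g : G) (K : Subgroup G) : cj g (dg D K) ≤ dg D (cj g K) :=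
  cj_le_iff.2 (dg_le_of fun A a b => cj_le_iff.1 (le_dg (h.inv A a g) (cj_mono g b)))

theorem cj_dg (h : Hyp p q D) (g : G) (K : Subgroup G) : cj g (dg D K) = dg D (cj g K) :=
  le_antisymm (h.cj_dg_le g K) (le_cj_iff.2 ((h.cj_dg_le _ _).trans (by rw [cj_inv_cj])))

theorem n_dg (h : Hyp p q D) (k : H ≤ 𝒩(K)) : H ≤ 𝒩(dg D K) := fun g hg => by
  rw [← cj_eq_iff_mem, h.cj_dg, cj_eq (k hg)]

theorem line (h : Hyp p q D) (hA : A ∈ D) (hB : B ∈ D) : Sub q D (A ⊔ B) := ⟨dg_line hA hB, h.lq A hA B hB⟩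

theorem isP (h : Hyp p q D) (hA : A ∈ D) : IsPGroup p A := pr_isP (h.card A hA)

theorem le_of_mem (h : Hyp p q D) (hA : A ∈ D) (hu : u ∈ A) (h1 : u ≠ 1) (k : u ∈ K) : A ≤ K :=
  pr_le h.pp (h.card A hA) hu h1 k

theorem ex (h : Hyp p q D) (hA : A ∈ D) : ∃ a ∈ A, a ≠ 1 := pr_ex h.pp (h.card A hA)

theorem comm (h : Hyp p q D) (hA : A ∈ D) : A ≤ 𝒞(A) := pr_comm h.pp (h.card A hA)

theorem disj (h : Hyp p q D) (hA : A ∈ D) {r : ℕ} (hr : r.Prime) (k : p ≠ r) (hK : IsPGroup r K) : Disjoint A K :=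
  have := Fact.mk h.pp
  have := Fact.mk hr
  IsPGroup.disjoint_of_ne p r k A K (h.isP hA) hK

theorem cop [Finite G] (h : Hyp p q D) (hA : A ∈ D) (hK : IsPGroup q K) : (Nat.card K).Coprime (Nat.card A) :=
  have := Fact.mk h.pp
  have := Fact.mk h.qp
  IsPGroup.coprime_card_of_ne q p h.pq.symm K A hK (h.isP hA)

theorem tr (h : Hyp p q D) (hA : A ∈ D) (hB : B ∈ D) (a : A ≤ H) (b : B ≤ H) : ∃ k ∈ dr H, cj k A = B :=
  (h.lc A hA B hB).imp fun _ k => ⟨dr_mono (sup_le a b) k.1, k.2⟩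

theorem sup (h : Hyp p q D) (e : dg D H = H) (hA : A ∈ D) (a : A ≤ H) : dr H ⊔ A = H :=
  le_antisymm (sup_le (dr_le H) a) (e.ge.trans (dg_le_of fun B hB b =>
    let ⟨_, k1, k2⟩ := h.tr hA hB a b; k2 ▸ cj_le_of_mem le_sup_right (mem_sup_left k1)))

theorem dec (h : Hyp p q D) (e : dg D H = H) (hA : A ∈ D) (a : A ≤ H) (hg : g ∈ H) :
    ∃ w ∈ dr H, ∃ x ∈ A, w * x = g :=
  (mem_sup_nl (a.trans (n_dr le_normalizer))).1 ((h.sup e hA a).ge hg)

theorem br (h : Hyp p q D) (e : dg D H = H) (hA : A ∈ D) (a : A ≤ H) : ⁅dr H, A⁆ = dr H := by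
  refine le_antisymm (commutator_le_of_le_norm (a.trans (n_dr le_normalizer))) ?_
  have nA : A ≤ 𝒩(⁅dr H, A⁆) := le_norm_commutator (a.trans (n_dr le_normalizer)) le_normalizer
  refine (dr_mono (e.ge.trans (dg_le_of fun B hB b => ?_))).trans (dr_sup_le nA (h.comm hA))
  obtain ⟨k, k1, rfl⟩ := h.tr hA hB a b
  rintro _ ⟨x, hx, rfl⟩
  simpa [commutatorElement_def] using mul_mem_sup (commutator_mem_commutator k1 hx) hx

/-- the stabiliser of a member -/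
theorem stab [Finite G] (h : Hyp p q D) (s : Sub q D H) (hA : A ∈ D) (a : A ≤ H) (hu : u ∈ dr H) (k : u ∈ 𝒩(A)) :
    u ∈ dr (dr H) :=
  have n := a.trans (n_dr (le_normalizer (H := H)))
  Odd.inf_cent_inf_comm_le_der n (h.cop hA s.der)
    ⟨⟨hu, mem_centralizer_of_mem_normalizer_of_disjoint n (h.disj hA h.qp h.pq s.der) hu k⟩, (h.br s.gen hA a).ge hu⟩

theorem cen (h : Hyp p q D) (hb : Alt q D) (s : Sub q D H) : dr (dr H) ≤ 𝒞(H) :=
  le_centralizer_iff.1 (s.gen.ge.trans (dg_le_of fun A hA a => le_centralizer_iff.1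
    (h.br s.gen hA a ▸ hb A hA _ s.der (a.trans (n_dr le_normalizer)))))

theorem cen_line (h : Hyp p q D) (hA : A ∈ D) (hB : B ∈ D) : dr (dr (A ⊔ B)) ≤ 𝒞(A ⊔ B) :=
  h.alt.elim (fun k => (k A hA B hB).le.trans bot_le) fun k => h.cen k (h.line hA hB)

theorem odd [Finite G] (h : Hyp p q D) (s : Sub q D H) : Odd (Nat.card H) := by
  have := Fact.mk h.qp
  obtain ⟨n, e⟩ := IsPGroup.iff_card.1 s.der
  by_cases k : ∃ A ∈ D, A ≤ H
  · obtain ⟨A, hA, a⟩ := k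
    have e1 := card_sup_mul_card_inf (a.trans (n_dr (le_normalizer (H := H))))
    rw [sup_comm, h.sup s.gen hA a, e, h.card A hA] at e1
    exact (Nat.odd_mul.1 (e1 ▸ (h.pp.odd_of_ne_two h.p2).mul (h.qp.odd_of_ne_two h.q2).pow)).1
  · rw [← s.gen, show dg D H = ⊥ from eq_bot_iff.2 (dg_le_of fun A a b => absurd ⟨A, a, b⟩ k), card_bot]
    exact odd_one

/-- an element fixing two members acts on both in the same way -/
theorem lin (h : Hyp p q D) (hA : A ∈ D) (hB : B ∈ D) (a : g ∈ 𝒞(A)) (b : g ∈ 𝒩(B)) : g ∈ 𝒞(B) := by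
  obtain ⟨k, k1, e⟩ := h.lc A hA B hB
  intro y hy
  obtain ⟨x, hx, e1⟩ := e.ge hy
  have n1 : g ∈ 𝒩(dr (A ⊔ B)) := n_dr (le_norm_sup (zpowers_le.2 (cent_le_norm A a)) (zpowers_le.2 b)) (mem_zpowers g)
  have n2 : x ∈ 𝒩(dr (A ⊔ B)) := n_dr le_normalizer (mem_sup_left hx)
  have m : g * y * g⁻¹ * y⁻¹ ∈ dr (A ⊔ B) := by
    have := mul_mem (mul_mem (conj_mem n1 k1) (conj_mem n2 (mul_mem (inv_mem (conj_mem n1 k1)) k1))) (inv_mem k1)
    have e2 : g * x = x * g := (a x hx).symm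
    rwa [show g * k * g⁻¹ * (x * ((g * k * g⁻¹)⁻¹ * k) * x⁻¹) * k⁻¹ = g * y * g⁻¹ * y⁻¹ by
      rw [← e1]; simp only [MulEquiv.coe_toMonoidHom, MulAut.conj_apply, mul_assoc, mul_inv_rev, inv_inv]
      rw [← mul_assoc x g, ← e2]; group] at this
  have := disjoint_def.1 (h.disj hB h.qp h.pq (h.lq A hA B hB)) (mul_mem (conj_mem b hy) (inv_mem hy)) m
  exact (mul_inv_eq_iff_eq_mul.1 (mul_inv_eq_one.1 this)).symm

/-- a 2-group normalising `H` fixes a member -/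
theorem fix [Finite G] (h : Hyp p q D) (s : Sub q D H) (hA : A ∈ D) (a : A ≤ H) {V : Subgroup G} (hV : IsPGroup 2 V)
    (n : V ≤ 𝒩(H)) : ∃ B ∈ D, B ≤ H ∧ V ≤ 𝒩(B) := by
  have := Fact.mk h.qp
  letI := MulAction.compHom (Subgroup G) (MulAut.conj : G →* MulAut G)
  obtain ⟨k, k1, k2⟩ := glauberman_exists_fixed (Y := Subgroup G) (n_dr n)
    (IsPGroup.coprime_card_of_ne 2 q h.q2.symm V _ hV s.der) (.inr (have := s.der.isNilpotent; inferInstance)) A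
    fun v hv => (h.tr hA (h.inv A hA v) a (cj_le_of_le a (n hv))).imp fun _ k => ⟨k.1, k.2.symm⟩
  exact ⟨cj k A, h.inv A hA k, cj_le_of_mem a (dr_le H k1), fun v hv => cj_eq_iff_mem.1 (k2 v hv)⟩

end Hyp

end CL.FSet
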