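/-
F-sets (S3257): the minimal counterexample and its maximal subgroups generated by members.
-/
import Cfsg.Agent.FSet.Base

set_option autoImplicit false

open Cfsg Subgroup CL.Grp CL.Even
open scoped commutatorElement Pointwise

namespace CL.FSet

variable {G : Type*} [Group G]

/-- the properties of a minimal counterexample -/
structure Min (p q : ℕ) (D : Set (Subgroup G)) : Prop extends Hyp p q D where
  gen : dg D ⊤ = ⊤
  sub : ∀ H : Subgroup G, H ≠ ⊤ → IsPGroup q (dr (dg D H))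
  oq : ∀ U : Subgroup G, IsPGroup q U → 𝒩(U) = ⊤ → U = ⊥
  zc : center G = ⊥

/-- a maximal proper subgroup generated by members -/
structure Mx (D : Set (Subgroup G)) (X : Subgroup G) : Prop where
  gen : dg D X = X
  ne : X ≠ ⊤
  max : ∀ K : Subgroup G, K ≠ ⊤ → X ≤ K → dg D K = X

variable {p q : ℕ} {D : Set (Subgroup G)} {A B H K W X : Subgroup G} {g u y : G}

theorem exists_mx [Finite G] (e : dg D H = H) (k : H ≠ ⊤) : ∃ X, Mx D X ∧ H ≤ X := by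
  obtain ⟨X, a, b, c⟩ := Set.Finite.exists_le_maximal (s := {X : Subgroup G | dg D X = X ∧ X ≠ ⊤}) (Set.toFinite _)
    (a := H) ⟨e, k⟩
  exact ⟨X, ⟨b.1, b.2, fun K k1 k2 => le_antisymm (c ⟨dg_dg, ne_top_of_le_ne_top k1 dg_le⟩ (le_dg_of b.1 k2))
    (le_dg_of b.1 k2)⟩, a⟩

theorem Mx.le (m : Mx D X) (k : K ≠ ⊤) (a : X ≤ K) (e : dg D W = W) (b : W ≤ K) : W ≤ X :=
  m.max K k a ▸ le_dg_of e b

theorem Mx.le_n (m : Mx D X) (h : Hyp p q D) (k : K ≠ ⊤) (a : X ≤ K) : K ≤ 𝒩(X) :=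
  m.max K k a ▸ h.n_dg le_normalizer

theorem Mx.cj (m : Mx D X) (h : Hyp p q D) (g : G) : Mx D (cj g X) :=
  ⟨by rw [← h.cj_dg, m.gen], fun e => m.ne (cj_inj.1 (e.trans (cj_top g).symm)), fun K k1 k2 => by
    rw [← m.max (cj g⁻¹ K) (fun e => k1 (cj_inj.1 (e.trans (cj_top g⁻¹).symm))) (cj_le_iff.1 k2), h.cj_dg, cj_cj_inv]⟩

namespace Min

theorem sb (h : Min p q D) (e : dg D H = H) (k : H ≠ ⊤) : Sub q D H := ⟨e, e ▸ h.sub H k⟩

theorem cne (h : Min p q D) (hy : y ≠ 1) : centralizer {y} ≠ ⊤ := fun e =>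
  hy (mem_bot.1 (h.zc ▸ mem_center_iff.2 fun g => mem_centralizer_singleton_iff.1 (e.ge (mem_top g))))

theorem nne (h : Min p q D) (hK : IsPGroup q K) (k : K ≠ ⊥) : 𝒩(K) ≠ ⊤ := fun e => k (h.oq K hK e)

/-- an element centralising a maximal subgroup fixes no other member -/
theorem le_of_cen (h : Min p q D) (m : Mx D X) (hy : y ≠ 1) (a : y ∈ 𝒞(X)) (e : dg D W = W) (b : y ∈ 𝒞(W)) : W ≤ X :=
  m.le (h.cne hy) (fun x hx => mem_centralizer_singleton_iff.2 (a x hx)) e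
    fun x hx => mem_centralizer_singleton_iff.2 (b x hx)

end Min

/-- a counterexample to the lemma below -/
def Cx (D : Set (Subgroup G)) (X A W : Subgroup G) : Prop :=
  dg D W = W ∧ W ≠ ⊤ ∧ A ≤ W ∧ dr (dr X) ⊓ 𝒩(W) ≠ ⊥ ∧ ¬ W ≤ X

/-- a new member normalising `U = (W' Z₁) ∩ N(X)` -/
theorem key [Finite G] (h : Min p q D) (hb : Alt q D) (m : Mx D X) (hA : A ∈ D) (a : A ≤ X) (c : Cx D X A W)
    (M1 : ∀ W', Cx D X A W' → dg D (W ⊓ X) ≤ W' → dg D (W' ⊓ X) ≤ dg D (W ⊓ X)) (hB : B ∈ D) (b : B ≤ X)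
    (b1 : B ≤ 𝒩((dr W ⊔ dr (dr X) ⊓ 𝒩(W)) ⊓ 𝒩(X))) : B ≤ dg D (W ⊓ X) := by
  have := Fact.mk h.qp
  obtain ⟨c1, c2, c3, c4, c5⟩ := c
  have sX := h.sb m.gen m.ne
  have sW := h.sb c1 c2
  have zX : dr (dr X) ≤ X := (dr_le _).trans (dr_le _)
  have pZ : IsPGroup q (dr (dr X)) := sX.der.to_le (dr_le _)
  set Z1 := dr (dr X) ⊓ 𝒩(W)
  have pT : IsPGroup q ↥(dr W ⊔ Z1) := isPGroup_sup' sW.der pZ.to_inf_left (n_dr inf_le_right)
  set U := (dr W ⊔ Z1) ⊓ 𝒩(X) with hU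
  have zU : Z1 ≤ U := le_inf le_sup_right (inf_le_left.trans (le_norm_of_le zX))
  have nU := h.nne (K := U) pT.to_inf_left fun e => c4 (eq_bot_iff.2 (zU.trans e.le))
  have aU : A ≤ 𝒩(U) := le_norm_inf (le_norm_sup (c3.trans (n_dr le_normalizer))
    (le_norm_inf (a.trans (n_dr (n_dr le_normalizer))) (le_norm_of_le (le_norm_of_le c3))))
      (le_norm_of_le (le_norm_of_le a))
  have e0 : dg D (W ⊓ X) ≤ dg D 𝒩(U) := le_dg_of dg_dg (by
    rw [← h.sup dg_dg hA (le_dg hA (le_inf c3 a))]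
    exact sup_le (le_norm_of_le (le_inf ((dr_mono (dg_le.trans inf_le_left)).trans le_sup_left)
      ((dr_le _).trans (le_norm_of_le (dg_le.trans inf_le_right))))) aU)
  have ne : ∀ {W' : Subgroup G}, U ≤ 𝒩(W') → dr (dr X) ⊓ 𝒩(W') ≠ ⊥ := fun k e =>
    c4 (eq_bot_iff.2 ((le_inf inf_le_left (zU.trans k)).trans e.le))
  by_cases k : dg D 𝒩(U) ≤ X
  swap
  · exact (le_dg hB (le_inf (le_dg hB b1) b)).trans (M1 _ ⟨dg_dg, ne_top_of_le_ne_top nU dg_le, le_dg hA aU,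
      ne (h.n_dg (le_norm_of_le le_normalizer)), k⟩ e0)
  have lt : U < dr W ⊔ Z1 := lt_of_le_of_ne inf_le_left fun e => c5 (m.le
    (ne_top_of_le_ne_top (h.nne pZ fun j => c4 (eq_bot_iff.2 (inf_le_left.trans j.le))) (n_dr (n_dr le_rfl)))
    le_normalizer c1 (h.sup c1 hA c3 ▸ sup_le (le_sup_left.trans (e.ge.trans inf_le_right)) (le_norm_of_le a)))
  obtain ⟨g, g1, g2⟩ := SetLike.exists_of_lt (lt_inf_normalizer_of_isPGroup pT lt)
  have k1 : dg D 𝒩(U) ≤ cj g X := cj_eq (h.n_dg le_normalizer g1.2) ▸ cj_mono g k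
  have m' := m.cj h.toHyp g
  exact (le_dg hB (le_inf ((le_dg hB b1).trans k1) b)).trans (M1 _ ⟨m'.gen, m'.ne, (le_dg hA aU).trans k1,
    ne (by rw [← cj_norm, ← cj_eq g1.2]; exact cj_mono g inf_le_right),
    fun j => g2 ⟨g1.1, mem_norm_of_cj_le j⟩⟩ (e0.trans k1))

/-- a proper subgroup generated by members that meets `X` and is normalised by an element of `X''` lies in `X` -/
theorem not_cx [Finite G] (h : Min p q D) (hb : Alt q D) (m : Mx D X) (hA : A ∈ D) (a : A ≤ X) : ¬ Cx D X A W := by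
  intro c0
  have := Fact.mk h.qp
  obtain ⟨_, ⟨W0, c0, rfl⟩, mx1⟩ := Set.Finite.exists_maximal
    (s := (fun W => dg D (W ⊓ X)) '' {W | Cx D X A W}) (Set.toFinite _) ⟨_, W, c0, rfl⟩
  obtain ⟨W, le0, c, mx2⟩ := Set.Finite.exists_le_maximal (s := {W | Cx D X A W}) (Set.toFinite _) (a := W0) c0
  have M1 : ∀ W', Cx D X A W' → dg D (W ⊓ X) ≤ W' → dg D (W' ⊓ X) ≤ dg D (W ⊓ X) := fun W' c' k =>
    have l := dg_mono (D := D) (inf_le_inf_right X le0)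
    (mx1 ⟨W', c', rfl⟩ (l.trans (le_dg_of dg_dg (le_inf k (dg_le.trans inf_le_right))))).trans l
  have kb := fun B => key (B := B) h hb m hA a c M1
  obtain ⟨c1, c2, c3, c4, c5⟩ := c
  have sX := h.sb m.gen m.ne
  have sW := h.sb c1 c2
  have cX := h.cen hb sX
  have cW := h.cen hb sW
  have pZ : IsPGroup q (dr (dr X)) := sX.der.to_le (dr_le _)
  have pY : IsPGroup q (dr (dr W)) := sW.der.to_le (dr_le _)
  set Z1 := dr (dr X) ⊓ 𝒩(W) with hZ1
  set Z0 := dr (dr W) ⊓ 𝒩(X) with hZ0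
  set X0 := dg D (W ⊓ X) with hX0
  have xW : X0 ≤ W := dg_le.trans inf_le_left
  have xX : X0 ≤ X := dg_le.trans inf_le_right
  have aX : A ≤ X0 := le_dg hA (le_inf c3 a)
  have M2 : ∀ K : Subgroup G, K ≠ ⊤ → W ≤ K → Z1 ≤ K → K ≤ 𝒩(W) := fun K k1 k2 k3 => by
    have l := le_dg_of c1 k2
    rw [← le_antisymm (mx2 ⟨dg_dg, ne_top_of_le_ne_top k1 dg_le, c3.trans l, fun e => c4 (eq_bot_iff.2
      ((le_inf inf_le_left (h.n_dg (le_norm_of_le k3))).trans e.le)), fun e => c5 (l.trans e)⟩ l) l]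
    exact h.n_dg le_normalizer
  have ab : dr X0 ≤ 𝒞(dr X0) := commutator_eq_bot_iff'.1 ((eq_bot_iff_forall _).2 fun y hy => by
    by_contra y1
    exact c5 (h.le_of_cen m y1 (cX (dr_mono (dr_mono xX) hy)) c1 (cW (dr_mono (dr_mono xW) hy))))
  have yc : dr X0 ⊔ dr (dr X) ≤ 𝒞(dr X0) := sup_le ab (cX.trans (cent_mono ((dr_le _).trans xX)))
  have nY : ¬ dr X ≤ dr X0 ⊔ dr (dr X) := fun e => c5 (m.le c2 (m.gen.ge.trans (dg_le_of fun B hB b => by
    obtain ⟨k, k1, rfl⟩ := h.tr hA hB a b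
    obtain ⟨r, hr, z, hz, rfl⟩ := (mem_sup_nr ((dr_mono xX).trans (n_dr le_normalizer))).1 (e k1)
    rw [cj_mul, cj_eq_of_mem_cent (cent_mono a (cX hz))]
    exact cj_le_of_mem c3 (xW (dr_le _ hr)))) c1 le_rfl)
  obtain ⟨I, i1, i2, i3, i4⟩ : ∃ I ≤ dr X, ¬ I ≤ dr X0 ⊔ dr (dr X) ∧ ⁅I, Z0⁆ ≤ dr X0 ⊔ dr (dr X) ∧ ⁅I, dr X0⁆ ≤ Z1 := by
    by_cases e : dr (dr W) = ⊥
    · refine ⟨_, le_rfl, nY, by simp [hZ0, e], ?_⟩
      by_cases e0 : dr X0 = ⊥
      · simp [e0]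
      have l : dr (dr X) ≤ 𝒩(dr X0) := cX.trans ((cent_mono ((dr_le _).trans xX)).trans (cent_le_norm _))
      refine (commutator_mono le_rfl (dr_mono xX)).trans (le_inf le_rfl (l.trans (M2 _
        (h.nne (sX.der.to_le (dr_mono xX)) e0) ?_ (inf_le_left.trans l))))
      exact h.sup c1 hA c3 ▸ sup_le (((commutator_eq_bot_iff'.1 e).trans (cent_mono (dr_mono xW))).trans
        (cent_le_norm _)) (aX.trans (n_dr le_normalizer))
    have z0 : Z0 ≠ ⊥ := fun j => inf_cent_ne_bot pY pZ.to_inf_left (n_dr (n_dr inf_le_right)) e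
      (eq_bot_iff.2 ((inf_le_inf_left _ ((cent_le_norm Z1).trans (m.le_n h.toHyp (h.nne pZ.to_inf_left c4)
        ((le_centralizer_iff.1 (inf_le_left.trans cX)).trans (cent_le_norm _))))).trans j.le))
    have l := M2 _ (h.nne pY.to_inf_left z0) ((le_centralizer_iff.1 (inf_le_left.trans cW)).trans (cent_le_norm _))
      (le_norm_inf (n_dr (n_dr inf_le_right)) (le_norm_of_le (le_norm_of_le
        (inf_le_left.trans ((dr_le _).trans (dr_le _))))))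
    have nz : Z0 ≤ 𝒩(dr X) := n_dr inf_le_right
    obtain ⟨i, j1, j2⟩ := exists_iter_not_le (exists_iter_eq_bot sX.der pY.to_inf_left nz) nY
    refine ⟨_, iter_le nz i, j1, j2, commutator_le.2 fun u hu r hr => ⟨commutator_mem_commutator (iter_le nz i hu)
      (dr_mono xX hr), l (cent_le_norm _ fun c hc => ?_)⟩⟩
    have e1 : r * c = c * r := cW hc.1 r (xW (dr_le _ hr))
    have e2 : r * ⁅u⁻¹, c⁆ = ⁅u⁻¹, c⁆ * r := yc (j2 (commutator_mem_commutator (inv_mem hu) hc)) r hr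
    have e3 : c * u = u * ⁅u⁻¹, c⁆ * c := by simp [commutatorElement_def, mul_assoc]
    have e4 : c * (u * r * u⁻¹) = u * r * u⁻¹ * c := by
      calc _ = c * u * r * u⁻¹ := by group
        _ = u * (r * ⁅u⁻¹, c⁆) * c * u⁻¹ := by rw [e3, e2, mul_assoc _ c, ← e1]; group
        _ = _ := by simp [commutatorElement_def, mul_assoc]
    rw [commutatorElement_def, ← mul_assoc, e4, mul_assoc _ c, mul_assoc _ _ c, ← (Commute.inv_left e1).eq]
  obtain ⟨u, hu, u1⟩ := SetLike.not_le_iff_exists.1 i2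
  have le1 : dr X0 ⊔ Z1 ≤ (dr W ⊔ Z1) ⊓ 𝒩(X) := le_inf (sup_le_sup_right (dr_mono xW) _)
    (le_norm_of_le (sup_le ((dr_le _).trans xX) (inf_le_left.trans ((dr_le _).trans (dr_le _)))))
  have nI : I ≤ 𝒩(dr X0 ⊔ Z1) := le_norm_of_commutator_le (commutator_sup_le' (le_norm_of_le le_sup_left)
    (le_norm_of_le le_sup_right) (commutator_comm I _ ▸ i4.trans le_sup_right)
    ((commutator_eq_bot_iff'.2 (le_centralizer_iff.1 (inf_le_left.trans
      (cX.trans (cent_mono (i1.trans (dr_le _))))))).le.trans bot_le))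
  have nA : A ≤ 𝒩(dr X0 ⊔ Z1) := le_norm_sup (aX.trans (n_dr le_normalizer))
    ((le_centralizer_iff.1 (inf_le_left.trans (cX.trans (cent_mono a)))).trans (cent_le_norm _))
  have uX : u ∈ X := dr_le _ (i1 hu)
  obtain ⟨r, hr, e⟩ := h.tr hA (h.inv A hA u) aX (kb _ (h.inv A hA u) (cj_le_of_mem a uX) (by
    rintro _ ⟨x, hx, rfl⟩
    have nb := mul_mem (mul_mem (nI hu) (nA hx)) (inv_mem (nI hu))
    refine mem_normalizer_fintype fun t ht => ?_
    obtain ⟨w, hw, z, hz, rfl⟩ := (mem_sup_nl (n_dr inf_le_right)).1 ht.1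
    have wn : w ∈ 𝒩(X) := (mul_mem_cancel_right (mem_inf.1 (le1 (mem_sup_right hz))).2).1 (mem_inf.1 ht).2
    obtain ⟨r, hr, e⟩ := h.tr hA (h.inv A hA w) aX (le_dg (h.inv A hA w)
      (le_inf (cj_le_of_mem c3 (dr_le _ hw)) (cj_le_of_le a wn)))
    have hc : r⁻¹ * w ∈ Z0 := ⟨h.stab sW hA c3 (mul_mem (inv_mem (dr_mono xW hr)) hw)
      (by rw [← cj_eq_iff_mem, cj_mul, ← e, cj_inv_cj]),
        Subgroup.mul_mem _ (inv_mem (le_normalizer (xX (dr_le _ hr)))) wn⟩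
    rw [← mul_inv_cancel_left r w, ← conj_mul, ← conj_mul]
    generalize r⁻¹ * w = c at hc
    refine mul_mem (mul_mem (le1 (conj_mem nb (mem_sup_left hr))) ?_) (le1 (conj_mem nb (mem_sup_right hz)))
    obtain ⟨s, hs, v, hv, e1⟩ := (mem_sup_nr ((dr_mono xX).trans (n_dr le_normalizer))).1
      (i3 (commutator_mem_commutator (inv_mem hu) hc))
    have e2 : x * c = c * x := cW hc.1 x (c3 hx)
    have e3 : x * v = v * x := cX hv x (a hx)
    have e4 : u⁻¹ * c * u = s * v * c := by rw [e1]; simp [commutatorElement_def]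
    have e5 : (MulAut.conj u).toMonoidHom x * c * ((MulAut.conj u).toMonoidHom x)⁻¹ =
        u * (x * s * x⁻¹ * s⁻¹) * u⁻¹ * c := by
      calc _ = u * x * (u⁻¹ * c * u) * x⁻¹ * u⁻¹ := by simp [mul_assoc]
        _ = u * (x * s * x⁻¹) * (x * v * x⁻¹) * (x * c * x⁻¹) * u⁻¹ := by rw [e4]; group
        _ = u * (x * s * x⁻¹ * s⁻¹) * (s * v * c) * u⁻¹ := by rw [e2, e3]; group
        _ = _ := by rw [← e4]; group
    rw [e5]
    exact mul_mem (le1 (conj_mem (nI hu) (mem_sup_left (mul_mem (conj_mem (n_dr le_normalizer (aX hx)) hs)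
      (inv_mem hs))))) ⟨mem_sup_left (dr_le _ hc.1), hc.2⟩))
  exact u1 (mul_inv_cancel_left r u ▸ mul_mem_sup hr (h.stab sX hA a (mul_mem (inv_mem (dr_mono xX hr)) (i1 hu))
    (by rw [← cj_eq_iff_mem, cj_mul, ← e, cj_inv_cj])))

end CL.FSet
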