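/-
F-sets (S3257): the involutions of a minimal counterexample.
-/
import Cfsg.Agent.FSet.Max
import Cfsg.Agent.Inv.ZStar
import Cfsg.Agent.Odd.FT
import Cfsg.Agent.S0942
import Cfsg.Agent.S0943

set_option autoImplicit false

open Cfsg Subgroup CL.Grp CL.Even
open scoped commutatorElement Pointwise

namespace CL.FSet

variable {G : Type*} [Group G] {p q : ℕ} {D : Set (Subgroup G)} {A B C H X : Subgroup G} {t s u k y : G}

/-- the line through `B` and its image under `t` -/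
abbrev ln (t : G) (B : Subgroup G) : Subgroup G := B ⊔ cj t B

theorem n_ln (ht : t * t = 1) : t ∈ 𝒩(ln t B) := by
  rw [← cj_eq_iff_mem, cj_sup, ← cj_mul, ht, cj_one, sup_comm]

theorem two (ht : t * t = 1) : IsPGroup 2 (zpowers t) := isPGroup_zpowers (k := 1) (by simpa [sq] using ht)

theorem le_c : A ≤ centralizer {t} ↔ t ∈ 𝒞(A) :=
  ⟨fun h _ ha => mem_centralizer_singleton_iff.1 (h ha), fun h a ha => mem_centralizer_singleton_iff.2 (h a ha)⟩

variable [Finite G]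

namespace Hyp

theorem sln (h : Hyp p q D) (hB : B ∈ D) : Sub q D (ln t B) := h.line hB (h.inv B hB t)

theorem cln (h : Hyp p q D) (hB : B ∈ D) : dr (dr (ln t B)) ≤ 𝒞(ln t B) := h.cen_line hB (h.inv B hB t)

theorem cpt (h : Hyp p q D) (ht : t * t = 1) (hA : A ∈ D) (a : t ∈ 𝒞(A)) (hB : B ∈ D) :
    ∃ C ∈ D, C ≤ ln t B ∧ t ∈ 𝒞(C) :=
  let ⟨C, c1, c2, c3⟩ := h.fix (h.sln hB) hB le_sup_left (two ht) (zpowers_le.2 (n_ln ht))
  ⟨C, c1, c2, h.lin hA c1 a (c3 (mem_zpowers t))⟩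

theorem cop2 (h : Hyp p q D) (ht : t * t = 1) (hH : IsPGroup q H) : (Nat.card (zpowers t)).Coprime (Nat.card H) :=
  have := Fact.mk h.qp
  IsPGroup.coprime_card_of_ne 2 q h.q2.symm _ _ (two ht) hH

theorem cent (h : Hyp p q D) (ht : t * t = 1) (hB : B ∈ D) (hC : C ∈ D) (c : C ≤ ln t B) (c' : t ∈ 𝒞(C))
    (hu : u ∈ dr (ln t B)) (e : Commute t u) : u ∈ dr (dr (ln t B)) := by
  have := Fact.mk h.qp
  have s := h.sln (t := t) hB
  have n : zpowers t ≤ 𝒩(dr (ln t B)) := n_dr (zpowers_le.2 (n_ln ht))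
  refine Odd.inf_cent_inf_comm_le_der n (h.cop2 ht s.der).symm ⟨⟨hu, fun _ ⟨i, j⟩ => j ▸ e.zpow_left i⟩, ?_⟩
  by_contra k
  have := s.der.isNilpotent
  have lt := commutator_sup_lt_of_isNilpotent (lt_of_le_of_ne (commutator_le_of_le_norm n) fun j => k (j.ge hu))
  set J := dr (dr (ln t B)) ⊔ ⁅dr (ln t B), zpowers t⁆
  have nJ : ln t B ≤ 𝒩(J) := h.sup s.gen hC c ▸ sup_le (n_of_dr le_sup_left lt.le)
    (le_norm_sup (c.trans (n_dr (n_dr le_normalizer))) (le_norm_commutator (c.trans (n_dr le_normalizer))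
      ((le_centralizer_iff.1 (zpowers_le.2 c')).trans (cent_le_norm _))))
  refine lt.not_ge ((dr_mono (sup_le le_sup_right ?_)).trans (dr_sup_le (le_sup_left.trans nJ) (h.comm hB)))
  obtain ⟨k, k1, k2⟩ := h.tr hC hB c (le_sup_left : B ≤ ln t B)
  have e1 : cj t B = cj ⁅k, t⁆⁻¹ B := by
    conv_rhs => rw [← k2, ← cj_mul, show ⁅k, t⁆⁻¹ * k = t * k * t⁻¹ by simp only [commutatorElement_def]; group, cj_mul,
      cj_eq_of_mem_cent (inv_mem c'), cj_mul, k2]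
  exact e1 ▸ cj_le_of_mem le_sup_right (mem_sup_left (mem_sup_right
    (inv_mem (commutator_mem_commutator k1 (mem_zpowers t)))))

/-- `t` inverts the line -/
theorem invt (h : Hyp p q D) (ht : t * t = 1) (hB : B ∈ D) (hC : C ∈ D) (c : C ≤ ln t B) (c' : t ∈ 𝒞(C))
    (hu : u ∈ dr (ln t B)) : t * u * t⁻¹ * u ∈ dr (dr (ln t B)) := by
  have := Fact.mk h.qp
  have s := h.sln (t := t) hB
  have n : zpowers t ≤ 𝒩(dr (ln t B)) := n_dr (zpowers_le.2 (n_ln ht))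
  have m := conj_mem (n (mem_zpowers t)) hu
  have := s.der.isNilpotent
  obtain ⟨w, w1, w2⟩ := exists_centralizer_mem_coset n (h.cop2 ht s.der) (.inr inferInstance) (dr_le _)
    (n_dr le_normalizer) (n_dr n) (mul_mem m hu) fun a ha => by
      obtain ⟨i, rfl⟩ := ha
      rcases Int.even_or_odd' i with ⟨j, rfl | rfl⟩ <;> simp only [zpow_add, zpow_mul, zpow_two, ht, one_zpow]
      · simp
      · rw [one_mul, zpow_one, show t * (t * u * t⁻¹ * u) * t⁻¹ * (t * u * t⁻¹ * u)⁻¹ =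
          t * t * u * (t * t)⁻¹ * (t * u * t⁻¹) * u⁻¹ * (t * u * t⁻¹)⁻¹ by group, ht, one_mul, inv_one, mul_one]
        exact commutator_mem_commutator hu m
  exact inv_mem_iff.1 ((mul_mem_cancel_right (h.cent ht hB hC c c' w1.1 (w1.2 t (mem_zpowers t)))).1 w2)

theorem refl (h : Hyp p q D) (ht : t * t = 1) (hB : B ∈ D) (hC : C ∈ D) (c : C ≤ ln t B) (c' : t ∈ 𝒞(C))
    (hk : k ∈ dr (C ⊔ B)) : cj t (cj k C) = cj k⁻¹ C := by
  have k1 := dr_mono (sup_le c le_sup_left) hk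
  rw [← cj_mul, show t * k = t * k * t⁻¹ * k * k⁻¹ * t by group, cj_mul, cj_eq_of_mem_cent c', cj_mul]
  exact cj_eq_of_mem_cent (cent_mono (cj_le_of_mem c (inv_mem (dr_le _ k1))) (h.cln hB (h.invt ht hB hC c c' k1)))

/-- `t` normalises every subgroup generated by members that contains the fixed members -/
theorem nrm (h : Hyp p q D) (ht : t * t = 1) (hA : A ∈ D) (a : t ∈ 𝒞(A)) (e : dg D H = H)
    (k : dg D (centralizer {t}) ≤ H) : t ∈ 𝒩(H) :=
  mem_norm_of_cj_le (cj_le_iff.2 (e.ge.trans (dg_le_of fun B hB b => cj_le_iff.1 (by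
    obtain ⟨C, c1, c2, c3⟩ := h.cpt ht hA a hB
    obtain ⟨w, w1, w2⟩ := h.lc C c1 B hB
    have l := (le_dg c1 (le_c.2 c3)).trans k
    rw [← w2, h.refl ht hB c1 c2 c3 w1]
    exact cj_le_of_mem l (inv_mem (sup_le l b (dr_le _ w1)))))))

/-- the shape of the product of `t` and an element of a member -/
theorem shape (h : Hyp p q D) (ht : t * t = 1) (hA : A ∈ D) (a : t ∈ 𝒞(A)) (hB : B ∈ D) (hy : y ∈ B) :
    ∃ w ∈ dr (dr (ln t B)) ⊓ centralizer {t}, ∃ x ∈ dg D (centralizer {t}), IsConj (t * y) (t * (w * x)) := by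
  obtain ⟨C, c1, c2, c3⟩ := h.cpt ht hA a hB
  have s := h.sln (t := t) hB
  obtain ⟨m, hm⟩ := h.odd s
  have ti : t⁻¹ = t := inv_eq_of_mul_eq_one_right ht
  have g2 : (t * y) ^ 2 ∈ ln t B := by
    have := mul_mem (mem_sup_right (conj_mem_cj t hy) : _ ∈ ln t B) (mem_sup_left hy)
    rwa [ti, mul_assoc, ← sq] at this
  have e1 : (t * y) ^ (2 * m + 1) * (t * y) ^ (2 * m + 1) = 1 := by
    rw [← pow_add, ← two_mul, pow_mul, ← hm]
    exact congrArg Subtype.val (pow_card_eq_one' (x := (⟨_, g2⟩ : ln t B)))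
  have m1 : t * (t * y) ^ (2 * m + 1) ∈ ln t B := by
    rw [pow_succ', ← mul_assoc, ← mul_assoc, ht, one_mul, pow_mul]
    exact mul_mem (mem_sup_left hy) (pow_mem g2 m)
  obtain ⟨j, e2⟩ := Inv.exists_pow_conj_of_odd ht e1 (Inv.odd_orderOf_of_mem_odd (h.odd s) m1)
  have m2 := pow_mem m1 j
  generalize (t * (t * y) ^ (2 * m + 1)) ^ j = l at e2 m2
  obtain ⟨w, w1, x, x1, e3⟩ := h.dec s.gen c1 c2 (mul_mem (mul_mem (inv_mem m2) (inv_mem (pow_mem g2 m))) m2)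
  have e4 : t = l⁻¹ * (t * y) ^ (2 * m + 1) * l := by rw [← e2]; group
  have e5 : Commute t (w * x) := by
    rw [e3]
    generalize t * y = g at e4
    rw [e4, Commute, SemiconjBy]; group
  have e6 : Commute t w := by
    have := e5.mul_right (Commute.inv_right (c3 x x1).symm)
    rwa [mul_inv_cancel_right] at this
  refine ⟨w, ⟨h.cent ht hB c1 c2 c3 w1 e6, mem_centralizer_singleton_iff.2 e6.symm⟩, x, le_dg c1 (le_c.2 c3) x1,
    isConj_iff.2 ⟨l⁻¹, ?_⟩⟩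
  rw [e3]
  generalize t * y = g at e4
  rw [e4]; group

end Hyp

namespace Min

theorem nn (h : Min p q D) (hA : A ∈ D) : 𝒩(A) ≠ ⊤ := fun e => by
  have k : ⊤ ≤ A := h.gen.ge.trans (dg_le_of fun B hB _ =>
    let ⟨k, _, k2⟩ := h.lc A hA B hB; k2 ▸ (cj_eq (e.ge (mem_top k))).le)
  obtain ⟨a, ha, a1⟩ := h.ex hA
  exact h.cne a1 (top_le_iff.1 (k.trans (le_c.2 (h.comm hA ha))))

theorem all (h : Min p q D) (k : ∀ B ∈ D, y ∈ 𝒞(B)) : y = 1 := by
  by_contra y1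
  exact h.cne y1 (top_le_iff.1 (h.gen.ge.trans (dg_le_of fun B hB _ => le_c.2 (k B hB))))

theorem top_le (h : Min p q D) (hA : A ∈ D) (n : 𝒩(H) = ⊤) (a : A ≤ H) : ⊤ ≤ H :=
  h.gen.ge.trans (dg_le_of fun B hB _ =>
    let ⟨k, _, k2⟩ := h.lc A hA B hB; k2 ▸ cj_le_of_le a (n.ge (mem_top k)))

theorem oc (h : Min p q D) : oddCore G = ⊥ := by
  by_contra e
  have := (nontrivial_iff_ne_bot _).2 e
  have := Odd.feit_thompson (Inv.odd_card_oddCore (G := G))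
  obtain ⟨r, hr, k⟩ := exists_pCore_ne_bot (oddCore G)
  have := Fact.mk hr
  have := Fact.mk h.qp
  rw [Ne, ← core_eq_bot_iff] at k
  have n : 𝒩(pCoreOf r (oddCore G)) = ⊤ := top_le_iff.1 (le_norm_core le_normalizer_of_normal)
  have pN := core_isP (p := r) (oddCore G)
  generalize pCoreOf r (oddCore G) = N at k n pN
  have nA : ∀ A ∈ D, N ≤ 𝒩(A) := fun A hA x hx => by
    obtain ⟨w, w1, w2⟩ := h.lc A hA _ (h.inv A hA x)
    rw [← cj_eq_iff_mem, ← w2, disjoint_def.1 (IsPGroup.disjoint_of_ne q r (fun j => k (h.oq N (j ▸ pN) n)) _ _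
      (h.lq A hA _ (h.inv A hA x)) pN) w1 (dr_sup_le (le_top.trans n.ge) (h.comm hA) (dr_mono
        (sup_le le_sup_right (cj_le_of_mem le_sup_right (mem_sup_left hx))) w1)), cj_one]
  refine k ((eq_bot_iff_forall N).2 fun x hx => h.all fun B hB =>
    mem_centralizer_of_mem_normalizer_of_disjoint (le_top.trans n.ge) (disjoint_def.2 fun {b} b1 b2 => ?_) hx (nA B hB hx))
  by_contra b0
  exact h.nn hB (top_le_iff.1 ((h.top_le hB n (h.le_of_mem hB b1 b0 b2)).trans (nA B hB)))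

theorem nis (h : Min p q D) (ht : t * t = 1) (t1 : t ≠ 1) :
    ∃ g, Commute t (g * t * g⁻¹) ∧ g * t * g⁻¹ ≠ t := by
  by_contra! k
  exact t1 (mem_bot.1 (h.zc ▸ Inv.zstar_mem_center h.oc ⟨Inv.orderOf_two_of_mul_self ht t1, k⟩))

/-- the character argument -/
theorem not_good (h : Min p q D) (ht : t * t = 1) (t1 : t ≠ 1) (hA : A ∈ D) (a : t ∈ 𝒞(A))
    (k : ∀ B ∈ D, dr (dr (ln t B)) ⊓ centralizer {t} ≤ pPrimeCoreOf 2 (centralizer {t})) : False := by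
  have o2 := Inv.orderOf_two_of_mul_self ht t1
  have hO : dg D (centralizer {t}) ≤ pPrimeCoreOf 2 (centralizer {t}) := le_pPrimeCoreOf dg_le (h.n_dg le_normalizer)
    (Nat.coprime_two_right.2 (h.odd (h.sb dg_dg (ne_top_of_le_ne_top (h.cne t1) dg_le))))
  obtain ⟨x, hx, x1⟩ := h.ex hA
  obtain ⟨M, hM⟩ := Inv.exists_isPModular 2 Nat.prime_two
  have k1 : ∀ χ ∈ principalBlock M G, χ ≠ Char.irrOne G → (χ : G → ℂ) t = 0 := fun χ hχ c1 => by
    have v := fun c hc => Cfsg.Agent.S0942.result 2 M hM t ⟨1, by rw [o2]; rfl⟩ c hc χ hχ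
    have e1 := Cfsg.Agent.S0943.result χ t x fun x' y' j1 j2 => by
      obtain ⟨g, rfl⟩ := isConj_iff.1 j1
      obtain ⟨l, rfl⟩ := isConj_iff.1 j2
      obtain ⟨w, w1, z, z1, e⟩ := h.shape ht hA a (h.inv A hA (g⁻¹ * l)) (conj_mem_cj _ hx)
      rw [v x (hO (le_dg hA (le_c.2 a) hx)), ← v _ (mul_mem (k _ (h.inv A hA _) w1) (hO z1)),
        ← χ.2.isClassFunction.apply_eq_of_isConj e]
      exact χ.2.isClassFunction.apply_eq_of_isConj (isConj_iff.2 ⟨g⁻¹, by group⟩)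
    rw [v x (hO (le_dg hA (le_c.2 a) hx)), mul_comm] at e1
    by_contra e2
    have := χ.2.charKer_normal
    exact c1 (Subtype.ext (χ.2.charKer_eq_top_iff.1 (top_le_iff.1 (h.top_le hA (normalizer_eq_top _)
      (h.le_of_mem hA hx x1 (χ.2.mem_charKer.2 (mul_right_cancel₀ e2 e1)))))))
  have o1 := Cfsg.Agent.S0907.result 2 M hM _ (Blk.isPBlock_principal M) 1 t (by simp) (by rw [o2])
  classical
  rw [finsum_eq_single _ (Char.irrOne G)] at o1
  · rw [finsum_eq_if, if_pos (Blk.irrOne_mem_principal hM)] at o1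
    simp [Char.coe_irrOne] at o1
  · intro χ c1
    by_cases hχ : χ ∈ principalBlock M G
    · rw [finsum_eq_if, if_pos hχ, k1 χ hχ c1, map_zero, mul_zero]
    · rw [finsum_eq_if, if_neg hχ]

/-- an involution centralising a member centralises a second one -/
theorem many (h : Min p q D) (ht : t * t = 1) (t1 : t ≠ 1) (hA : A ∈ D) (a : t ∈ 𝒞(A)) :
    dr (dg D (centralizer {t})) ≠ ⊥ := fun e => by
  have u1 : ∀ B ∈ D, t ∈ 𝒞(B) → B = A := fun B hB b => by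
    obtain ⟨k, k1, k2⟩ := h.tr hA hB (le_dg hA (le_c.2 a)) (le_dg hB (le_c.2 b))
    rw [← k2, mem_bot.1 (e.le k1), cj_one]
  obtain ⟨g, g1, g2⟩ := h.nis ht t1
  have hs : g * t * g⁻¹ * (g * t * g⁻¹) = 1 := by rw [conj_mul, ht]; simp
  have b : g * t * g⁻¹ ∈ 𝒞(cj g A) := cj_cent g A ▸ conj_mem_cj g a
  have u2 : ∀ B ∈ D, g * t * g⁻¹ ∈ 𝒞(B) → B = cj g A := fun B hB k => by
    rw [← u1 _ (h.inv B hB g⁻¹) (by rw [← cj_cent, mem_cj]; simpa using k), cj_cj_inv]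
  generalize g * t * g⁻¹ = s at g1 g2 hs b u2
  have a' : s ∈ 𝒞(A) := h.lin (h.inv A hA g) hA b (cj_eq_iff_mem.1 (u1 _ (h.inv A hA s) (by
    rw [← cj_cent, mem_cj, mul_assoc, g1.eq, inv_mul_cancel_left]; exact a)))
  refine g2 (inv_mul_eq_one.1 (h.all fun B hB => h.lin hA hB (mul_mem (inv_mem a') a) ?_))
  obtain ⟨C, c1, c2, c3⟩ := h.cpt ht hA a hB
  obtain ⟨C', d1, d2, d3⟩ := h.cpt hs hA a' hB
  obtain ⟨k, k1, k2⟩ := h.lc A hA B hB
  rw [u1 C c1 c3] at c2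
  rw [(u2 C' d1 d3).trans (u2 A hA a').symm] at d2
  rw [← cj_eq_iff_mem, cj_mul, ← k2, h.refl ht hB hA c2 a k1, ← h.refl hs hB hA d2 a' k1, cj_inv_cj]

theorem good (h : Min p q D) (ng : ¬ IsPGroup q (dr (⊤ : Subgroup G))) (ht : t * t = 1) (t1 : t ≠ 1) (hA : A ∈ D)
    (a : t ∈ 𝒞(A)) (hB : B ∈ D) : dr (dr (ln t B)) ⊓ centralizer {t} ≤ pPrimeCoreOf 2 (centralizer {t}) := by
  intro z hz
  by_cases z1 : z = 1
  · exact z1 ▸ one_mem _
  have := Fact.mk h.qp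
  have hb : Alt q D := h.alt.resolve_left fun k => z1 (mem_bot.1 (k B hB _ (h.inv B hB t) ▸ hz.1))
  have s := h.sln (t := t) hB
  obtain ⟨X, m, l⟩ := exists_mx s.gen fun e => ng (e ▸ s.der)
  obtain ⟨C, c1, c2, c3⟩ := h.cpt ht hA a hB
  have sX := h.sb m.gen m.ne
  have cX := h.cen hb sX
  have zX := dr_mono (dr_mono l) hz.1
  have ne : dg D (centralizer {t}) ≠ ⊤ := ne_top_of_le_ne_top (h.cne t1) dg_le
  have cH := le_dg c1 (le_c.2 c3)
  have nH : centralizer {t} ≤ 𝒩(dg D (centralizer {t})) := h.n_dg le_normalizer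
  set H := dg D (centralizer {t}) with hH
  have HX : H ≤ X := by
    by_contra k
    exact not_cx h hb m c1 (c2.trans l) ⟨dg_dg, ne, cH, fun e => z1 (mem_bot.1 (e.le (mem_inf.2 ⟨zX, nH hz.2⟩))), k⟩
  have tX := h.nrm ht hA a m.gen HX
  have nX : centralizer {t} ≤ 𝒩(X) := fun c hc => by
    by_contra k
    have m' := m.cj h.toHyp c
    have HX' : H ≤ cj c X := cj_eq (nH hc) ▸ cj_mono c HX
    have b1 : dr (dr X) ⊓ 𝒩(cj c X) = ⊥ := by
      by_contra e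
      exact not_cx h hb m c1 (c2.trans l) ⟨m'.gen, m'.ne, cH.trans HX', e, fun j => k (mem_norm_of_cj_le j)⟩
    have b2 : ∀ y ∈ dr (dr X), t * y * t⁻¹ = y := fun y hy => by
      have e : y * t * y⁻¹ ∈ 𝒩(cj c X) := h.nrm (by rw [conj_mul, ht]; simp) (h.inv A hA y)
        (cj_cent y A ▸ conj_mem_cj y a) m'.gen (dg_le_of fun E e1 e2 => by
          have := le_dg (h.inv E e1 y⁻¹) (le_c.2 (show t ∈ 𝒞(cj y⁻¹ E) by
            rw [← cj_cent, mem_cj, inv_inv]; exact le_c.1 e2))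
          exact ((cj_le_iff.1 this).trans (cj_eq_of_mem_cent (inv_mem (inv_mem (cent_mono HX (cX hy))))).le).trans HX')
      have e' : t * y * t⁻¹ * y⁻¹ ∈ dr (dr X) ⊓ 𝒩(cj c X) :=
        mem_inf.2 ⟨Subgroup.mul_mem _ (conj_mem (n_dr (n_dr le_rfl) tX) hy) (inv_mem hy), by
          have := mul_mem (h.nrm ht hA a m'.gen HX') (inv_mem e)
          rwa [show t * (y * t * y⁻¹)⁻¹ = t * y * t⁻¹ * y⁻¹ by group] at this⟩
      exact mul_inv_eq_one.1 (mem_bot.1 (b1.le e'))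
    have b3 : dr (ln t B) ≤ 𝒞(dr H) := fun u hu r hr => by
      have r1 := dr_mono HX hr
      have u1 := dr_mono l hu
      have w1 := cX (dr_mono (dr_mono l) (h.invt ht hB c1 c2 c3 hu))
      have m1 := commutator_mem_commutator r1 u1
      have e1 := b2 _ m1
      have e2 : r * t = t * r := mem_centralizer_singleton_iff.1 (dg_le (dr_le _ hr))
      have e3 := w1 r (dr_le _ r1)
      have e4 := cX m1 u (dr_le _ u1)
      have e5 : ⁅r, u⁆ * ⁅r, u⁆ = 1 := by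
        have e6 : t * ⁅r, u⁆ * t⁻¹ = ⁅r, t * u * t⁻¹ * u * u⁻¹⁆ := by
          rw [conjugate_commutatorElement, ← e2]; simp
        have e7 := w1 _ (dr_le _ (dr_le _ (commutator_mem_commutator r1 (inv_mem u1))))
        generalize t * u * t⁻¹ * u = w at e3 e6 e7
        calc _ = ⁅r, w * u⁻¹⁆ * ⁅r, u⁆ := by rw [← e6, e1]
          _ = r * w * (u⁻¹ * r⁻¹ * u * w⁻¹) * ⁅r, u⁆ := by simp only [commutatorElement_def]; group
          _ = w * ⁅r, u⁻¹⁆ * w⁻¹ * ⁅r, u⁆ := by rw [e3]; simp only [commutatorElement_def]; group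
          _ = u⁻¹ * ⁅r, u⁆⁻¹ * (u * ⁅r, u⁆) := by rw [← e7]; simp only [commutatorElement_def]; group
          _ = 1 := by rw [e4]; group
      exact commutatorElement_eq_one_iff_mul_comm.1 (disjoint_def.1 (IsPGroup.disjoint_of_ne q 2 h.q2 _ _ sX.der (two e5))
        (dr_le _ m1) (mem_zpowers _))
    have nR := h.nne (h.sb dg_dg ne).der (h.many ht t1 hA a)
    have b4 : ln t B ≤ dg D 𝒩(dr H) := le_dg_of s.gen (h.sup s.gen c1 c2 ▸ sup_le (b3.trans (cent_le_norm _))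
      (cH.trans (n_dr le_normalizer)))
    have b5 := h.le_of_cen m z1 (cX zX) dg_dg
      (h.cen hb (h.sb dg_dg (ne_top_of_le_ne_top nR dg_le)) (dr_mono (dr_mono b4) hz.1))
    have b6 : ln t B ≤ cj c X := b4.trans (cj_eq (h.n_dg (le_norm_of_le (n_dr nH)) hc) ▸ cj_mono c b5)
    exact k (mem_norm_of_cj_le (h.le_of_cen m z1 (cX zX) m'.gen
      (h.cen hb (h.sb m'.gen m'.ne) (dr_mono (dr_mono b6) hz.1))))
  exact le_pPrimeCoreOf (N := dr (dr X) ⊓ centralizer {t}) inf_le_right (le_norm_inf (n_dr (n_dr nX)) le_normalizer)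
    (by
      have := IsPGroup.coprime_card_of_ne q 2 h.q2 (dr (dr X) ⊓ centralizer {t}) (zpowers t)
        (sX.der.to_le (inf_le_left.trans (dr_le _))) (two ht)
      rwa [Nat.card_zpowers, Inv.orderOf_two_of_mul_self ht t1] at this) ⟨zX, hz.2⟩

theorem false (h : Min p q D) (ng : ¬ IsPGroup q (dr (⊤ : Subgroup G))) : False := by
  obtain ⟨A, hA⟩ : D.Nonempty := by
    by_contra k
    refine ng (IsPGroup.of_bot.to_le ((dr_le _).trans (h.gen.ge.trans (dg_le_of fun A a _ => absurd ⟨A, a⟩ k))))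
  have ev : 2 ∣ Nat.card G := by
    by_contra k
    have e : (⊤ : Subgroup G) ≤ oddCore G := Inv.le_oddCore (by rw [card_top]; exact Nat.odd_iff.2 (by omega))
    exact ng (IsPGroup.of_bot.to_le ((dr_le _).trans (e.trans h.oc.le)))
  obtain ⟨t, o2⟩ := exists_prime_orderOf_dvd_card' 2 ev
  have ht := Inv.mul_self_of_orderOf_two o2
  have t1 := Inv.ne_one_of_orderOf_two o2
  obtain ⟨g, g1, g2⟩ := h.nis ht t1
  have hs : g * t * g⁻¹ * (g * t * g⁻¹) = 1 := by rw [conj_mul, ht]; simp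
  have s1 : g * t * g⁻¹ ≠ 1 := mt conj_eq_one_iff.1 t1
  generalize g * t * g⁻¹ = s at g1 g2 hs s1
  obtain ⟨B, hB, -, b⟩ := h.fix (h.sln hA) hA le_sup_left (two ht) (zpowers_le.2 (n_ln ht))
  have b1 := b (mem_zpowers t)
  obtain ⟨C, hC, -, c⟩ := h.fix (h.sln (t := s) hB) hB le_sup_left (isPGroup_sup (two ht) (two hs)
    (zpowers_le.2 (cent_le_norm _ fun _ ⟨i, j⟩ => j ▸ g1.symm.zpow_left i))) (sup_le (zpowers_le.2 (by
      rw [← cj_eq_iff_mem, cj_sup, ← cj_mul, g1.eq, cj_mul, cj_eq b1])) (zpowers_le.2 (n_ln hs)))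
  obtain ⟨x, hx, x1⟩ := h.ex hC
  have fin : ∀ v, v * v = 1 → v ≠ 1 → ∀ y ∈ C, y ≠ 1 → v * y * v⁻¹ ≠ y := fun v v2 v1 y hy y1 e =>
    have a := le_c.1 (h.le_of_mem hC hy y1 (mem_centralizer_singleton_iff.2 (mul_inv_eq_iff_eq_mul.1 e).symm))
    h.not_good v2 v1 hC a fun B hB => h.good ng v2 v1 hC a hB
  have iv : ∀ v ∈ 𝒩(C), v * v = 1 → v ≠ 1 → v * x * v⁻¹ = x⁻¹ := fun v n v2 v1 => by
    by_contra k
    refine fin v v2 v1 _ (mul_mem (conj_mem n hx) hx) (fun e => k (eq_inv_of_mul_eq_one_left e)) ?_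
    rw [← conj_mul, h.comm hC hx _ (conj_mem n hx), show v * (v * x * v⁻¹) * v⁻¹ = v * v * x * (v * v)⁻¹ by group, v2]
    simp
  refine fin (t * s) (by rw [mul_assoc, ← mul_assoc s, ← g1.eq, mul_assoc, hs, mul_one, ht])
    (fun e => g2 ((eq_inv_of_mul_eq_one_right e).trans (inv_eq_of_mul_eq_one_right ht))) x hx x1 ?_
  rw [show t * s * x * (t * s)⁻¹ = t * (s * x * s⁻¹) * t⁻¹ by group, iv s (c (mem_sup_right (mem_zpowers s))) hs s1,
    ← conj_inv, iv t (c (mem_sup_left (mem_zpowers t))) ht t1, inv_inv]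

end Min

end CL.FSet
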