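/-
F-sets (S3257): the derived subgroup of the group generated by the members is a `q`-group.
-/
import Cfsg.Agent.FSet.Inv

set_option autoImplicit false

open Cfsg Subgroup CL.Grp CL.Even Function
open scoped commutatorElement Pointwise

namespace CL.FSet

universe u

variable {G G' : Type*} [Group G] [Group G'] {p q : ℕ} {D : Set (Subgroup G)}

theorem map_cj (f : G →* G') (g : G) (A : Subgroup G) : (cj g A).map f = cj (f g) (A.map f) := by
  rw [map_map, map_map]; congr 1; ext x; simp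

theorem map_dr (f : G →* G') (A : Subgroup G) : (dr A).map f = dr (A.map f) := map_commutator _ _ _

theorem Hyp.comap (h : Hyp p q D) {f : G' →* G} (hf : Injective f) : Hyp p q {A | A.map f ∈ D} where
  pp := h.pp
  qp := h.qp
  p2 := h.p2
  q2 := h.q2
  pq := h.pq
  card A hA := (card_map_of_injective hf).symm.trans (h.card _ hA)
  inv A hA g := show _ ∈ D from map_cj f g A ▸ h.inv _ hA _
  lq A hA B hB := ((h.lq _ hA _ hB).comap_of_injective f hf).to_le (by rw [← Subgroup.map_sup, ← map_dr]; exact le_comap_map _ _)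
  lc A hA B hB := by
    obtain ⟨k, k1, k2⟩ := h.lc _ hA _ hB
    rw [← Subgroup.map_sup, ← map_dr] at k1
    obtain ⟨k, k1, rfl⟩ := k1
    exact ⟨k, k1, map_injective hf ((map_cj f k A).trans k2)⟩
  alt := h.alt.imp (fun k A hA B hB => (map_eq_bot_iff_of_injective _ hf).1 (by
    rw [map_dr, map_dr, Subgroup.map_sup]; exact k _ hA _ hB)) fun k A hA Q hQ n =>
      commutator_eq_bot_iff'.1 ((map_eq_bot_iff_of_injective _ hf).1 (by
        rw [map_commutator, map_dr, map_commutator, commutator_eq_bot_iff']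
        exact k _ hA _ (hQ.map f) ((map_mono n).trans (le_normalizer_map f))))

theorem lift [Finite G] (hq : q.Prime) {f : G →* G'} (hf : Surjective f) (k : IsPGroup q f.ker ∨ f.ker ≤ center G)
    {Q : Subgroup G'} (hQ : IsPGroup q Q) : (pCoreOf q (Q.comap f)).map f = Q := by
  have := Fact.mk hq
  have := Finite.of_surjective f hf
  have e := map_comap_eq_self_of_surjective hf Q
  refine le_antisymm ((map_mono (core_le _)).trans e.le) ?_
  rcases k with k | k
  · rw [core_eq_self (hQ.comap_of_ker_isPGroup f k), e]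
  obtain ⟨T, hT⟩ := exists_isSylowIn q (Q.comap f)
  have e1 := syl_map f hT
  rw [e] at e1
  have e2 : T.map f = Q := (e1.eq_of_le hQ e1.le le_rfl).symm
  refine e2.ge.trans (map_mono (le_core hT.le hT.isPGroup ?_))
  rw [← e2, comap_map_eq]
  exact sup_le le_normalizer (k.trans ((center_le_centralizer _).trans (cent_le_norm _)))

theorem Hyp.map [Finite G] (h : Hyp p q D) {f : G →* G'} (hf : Surjective f)
    (k : IsPGroup q f.ker ∨ f.ker ≤ center G) (d : ∀ A ∈ D, Disjoint A f.ker) : Hyp p q (map f '' D) where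
  pp := h.pp
  qp := h.qp
  p2 := h.p2
  q2 := h.q2
  pq := h.pq
  card := by
    rintro _ ⟨A, hA, rfl⟩
    have e := card_dvd_of_surjective _ (f.subgroupMap_surjective A)
    rw [h.card A hA] at e
    refine ((Nat.dvd_prime h.pp).1 e).resolve_left fun j => ?_
    obtain ⟨a, ha, a1⟩ := h.ex hA
    exact a1 (disjoint_def.1 (d A hA) ha ((Subgroup.map_eq_bot_iff _).1 (eq_bot_of_card_eq _ j) ha))
  inv := by
    rintro _ ⟨A, hA, rfl⟩ g
    obtain ⟨g, rfl⟩ := hf g
    exact ⟨_, h.inv A hA g, map_cj f g A⟩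
  lq := by
    rintro _ ⟨A, hA, rfl⟩ _ ⟨B, hB, rfl⟩
    rw [← Subgroup.map_sup, ← map_dr]
    exact (h.lq A hA B hB).map f
  lc := by
    rintro _ ⟨A, hA, rfl⟩ _ ⟨B, hB, rfl⟩
    obtain ⟨k, k1, k2⟩ := h.lc _ hA _ hB
    exact ⟨f k, by rw [← Subgroup.map_sup, ← map_dr]; exact mem_map_of_mem f k1, by rw [← map_cj, k2]⟩
  alt := h.alt.imp (fun k => by
    rintro _ ⟨A, hA, rfl⟩ _ ⟨B, hB, rfl⟩
    rw [← Subgroup.map_sup, ← map_dr, ← map_dr, k A hA B hB, Subgroup.map_bot]) fun hb => by
      rintro _ ⟨A, hA, rfl⟩ Q hQ n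
      rw [← commutator_eq_bot_iff', ← lift h.qp hf k hQ, ← map_commutator, ← map_dr, ← map_commutator,
        commutator_eq_bot_iff'.2 (hb A hA _ (core_isP _) (le_norm_core ((le_comap_map f A).trans
          ((comap_mono n).trans (le_normalizer_comap f))))), Subgroup.map_bot]

theorem dg_map (e : dg D ⊤ = ⊤) {f : G →* G'} (hf : Surjective f) : dg (map f '' D) ⊤ = ⊤ :=
  top_le_iff.1 ((map_top_of_surjective f hf).ge.trans (map_le_iff_le_comap.2 (e.ge.trans (dg_le_of fun A hA _ =>
    map_le_iff_le_comap.1 (le_dg ⟨A, hA, rfl⟩ le_top)))))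

theorem main_aux (n : ℕ) : ∀ (G : Type u) [Group G] [Finite G] (D : Set (Subgroup G)), Nat.card G = n → Hyp p q D →
    dg D ⊤ = ⊤ → IsPGroup q (dr (⊤ : Subgroup G)) := by
  induction n using Nat.strong_induction_on with | _ n ih => ?_
  intro G _ _ D hn h e
  by_contra ng
  have one : ∀ A ∈ D, ¬ dr ⊤ ≤ 𝒩(A) := fun A hA k => ng (IsPGroup.of_bot.to_le
    ((dr_mono (e.ge.trans (dg_le_of fun B hB _ => let ⟨_, k1, k2⟩ := h.tr hA hB le_top le_top
      k2 ▸ (cj_eq (k k1)).le))).trans (commutator_eq_bot_iff'.2 (h.comm hA)).le))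
  have quo : ∀ (N : Subgroup G) [N.Normal], N ≠ ⊥ → (IsPGroup q N ∨ N ≤ center G) → (∀ A ∈ D, Disjoint A N) →
      IsPGroup q (dr (⊤ : Subgroup (G ⧸ N))) := fun N _ k1 k2 k3 =>
    ih _ (hn ▸ card_quotient_lt k1) _ _ rfl (h.map (QuotientGroup.mk'_surjective N)
      (by rwa [QuotientGroup.ker_mk']) (by rwa [QuotientGroup.ker_mk'])) (dg_map e (QuotientGroup.mk'_surjective N))
  have le : ∀ (N : Subgroup G) [N.Normal], dr ⊤ ≤ (dr ⊤).comap (QuotientGroup.mk' N) := fun N _ =>
    map_le_iff_le_comap.1 ((map_dr _ _).le.trans (dr_mono le_top))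
  have oq : ∀ U : Subgroup G, IsPGroup q U → 𝒩(U) = ⊤ → U = ⊥ := fun U hU n => by
    by_contra k
    have := normal_iff_top_le.2 n.ge
    exact ng (((quo U k (.inl hU) fun A hA => h.disj hA h.qp h.pq hU).comap_of_ker_isPGroup _
      (by rwa [QuotientGroup.ker_mk'])).to_le (le U))
  refine Min.false ⟨h, e, fun H k => ?_, oq, ?_⟩ ng
  · have := ih _ (hn ▸ card_lt_of_ne_top (ne_top_of_le_ne_top k (dg_le (D := D)))) _ _ rfl
      (h.comap (dg D H).subtype_injective) (top_le_iff.1 (map_subtype_le_map_subtype.1 ?_))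
    · have := this.map (dg D H).subtype
      rwa [map_dr, ← MonoidHom.range_eq_map, range_subtype] at this
    rw [← MonoidHom.range_eq_map, range_subtype]
    refine dg_le_of fun A hA a => (map_subgroupOf_eq_of_le (le_dg hA a)).ge.trans (map_mono (le_dg ?_ le_top))
    rwa [Set.mem_setOf_eq, map_subgroupOf_eq_of_le (le_dg hA a)]
  by_contra k
  have hQ := quo _ k (.inr le_rfl) fun A hA => disjoint_def.2 fun {a} a1 a2 => by
    by_contra a0
    exact one A hA fun g _ => cent_le_norm A fun x hx => (mem_center_iff.1 (h.le_of_mem hA a1 a0 a2 hx) g).symm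
  have l := lift h.qp (QuotientGroup.mk'_surjective _) (.inr (QuotientGroup.ker_mk' _).le) hQ
  rw [oq _ (core_isP _) (top_le_iff.1 (le_norm_core le_normalizer_of_normal)), Subgroup.map_bot] at l
  have l1 := le (center G)
  rw [← l, MonoidHom.comap_bot, QuotientGroup.ker_mk'] at l1
  obtain ⟨A, hA⟩ : D.Nonempty := by
    by_contra k
    refine ng (IsPGroup.of_bot.to_le ((dr_le _).trans (e.ge.trans (dg_le_of fun A a _ => absurd ⟨A, a⟩ k))))
  exact one A hA (l1.trans ((center_le_centralizer _).trans (cent_le_norm _)))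

/-- the derived subgroup of the group generated by the members is a `q`-group -/
theorem main [Finite G] (h : Hyp p q D) (e : dg D ⊤ = ⊤) : IsPGroup q (dr (⊤ : Subgroup G)) :=
  main_aux _ G D rfl h e

end CL.FSet
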