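/-
F-sets (S3257): the structure of the subgroup generated by two members.
-/
import Cfsg.Agent.FSet.Main

set_option autoImplicit false

open Cfsg Subgroup CL.Grp CL.Even Function
open scoped commutatorElement Pointwise

namespace CL.FSet

variable {G : Type*} [Group G]

/-- any two members generate a non-abelian subgroup of the odd order `m` -/
structure Pre (p m : ℕ) (D : Set (Subgroup G)) : Prop where
  pp : p.Prime
  p2 : p ≠ 2
  card : ∀ A ∈ D, Nat.card A = p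
  inv : ∀ A ∈ D, ∀ g, cj g A ∈ D
  om : Odd m
  lm : ∀ A ∈ D, ∀ B ∈ D, A ≠ B → Nat.card ↥(A ⊔ B) = m
  na : ∀ A ∈ D, ∀ B ∈ D, A ≠ B → dr (A ⊔ B) ≠ ⊥
  dd : (∀ A ∈ D, ∀ B ∈ D, A ≠ B → dr (dr (A ⊔ B)) = ⊥) ∨ ∀ A ∈ D, ∀ B ∈ D, A ≠ B → dr (dr (A ⊔ B)) ≠ ⊥

variable {p q m : ℕ} {D : Set (Subgroup G)} {A B C U : Subgroup G} {g u : G}

theorem cj_le_br (hu : u ∈ U) : cj u A ≤ ⁅U, A⁆ ⊔ A := by
  rintro _ ⟨x, hx, rfl⟩
  simpa [commutatorElement_def] using mul_mem_sup (commutator_mem_commutator hu hx) hx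

theorem dr_sup_eq_bot (a : A ≤ 𝒞(A)) (b : B ≤ 𝒞(B)) (c : A ≤ 𝒞(B)) : dr (A ⊔ B) = ⊥ :=
  commutator_eq_bot_iff'.2 (cent_sup A B ▸ sup_le (le_inf a c) (le_inf (le_centralizer_iff.1 c) b))

variable [Finite G]

namespace Pre

theorem gen (h : Pre p m D) (hA : A ∈ D) (hB : B ∈ D) (k : A ≠ B) (hC : C ∈ D) (hU : U ∈ D) (k' : C ≠ U)
    (c : C ≤ A ⊔ B) (c' : U ≤ A ⊔ B) : C ⊔ U = A ⊔ B :=
  eq_of_le_of_card_ge (sup_le c c') ((h.lm A hA B hB k).trans (h.lm C hC U hU k').symm).le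

theorem nn (h : Pre p m D) (hA : A ∈ D) (hB : B ∈ D) (k : A ≠ B) : ¬ B ≤ 𝒩(A) := fun n => by
  have := Fact.mk h.pp
  obtain ⟨a, ha, a1⟩ := pr_ex h.pp (h.card A hA)
  obtain ⟨⟨b, hb⟩, b1⟩ := ne_bot_iff_exists_ne_one.1 (inf_cent_ne_bot (pr_isP (h.card A hA)) (pr_isP (h.card B hB)) n
    fun e => a1 (mem_bot.1 (e.le ha)))
  exact h.na A hA B hB k (dr_sup_eq_bot (pr_comm h.pp (h.card A hA)) (pr_comm h.pp (h.card B hB))
    (pr_le h.pp (h.card A hA) hb.1 (fun e => b1 (Subtype.ext e)) hb.2))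

theorem lt (h : Pre p m D) (hA : A ∈ D) (hB : B ∈ D) (k : A ≠ B) (a : U ≤ A ⊔ B) (b : U ≠ ⊥) : dr U < U := by
  have : Group.IsSolvable U := Odd.feit_thompson (Odd.of_dvd_nat h.om (h.lm A hA B hB k ▸ card_dvd_of_le a))
  rw [← nontrivial_iff_ne_bot] at b
  rw [dr, ← map_subtype_commutator]
  conv_rhs => rw [← U.range_subtype, MonoidHom.range_eq_map]
  rw [map_subtype_lt_map_subtype]
  exact Group.IsSolvable.commutator_lt_top_of_nontrivial U

theorem sup (h : Pre p m D) (hA : A ∈ D) (hB : B ∈ D) (k : A ≠ B) : dr (A ⊔ B) ⊔ A = A ⊔ B := by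
  obtain ⟨g, g1, g2⟩ := SetLike.not_le_iff_exists.1 (h.nn hA hB k)
  refine le_antisymm (sup_le (dr_le _) le_sup_left) ?_
  conv_lhs => rw [← h.gen hA hB k hA (h.inv A hA g) (fun e => g2 (cj_eq_iff_mem.1 e.symm)) le_sup_left
    (cj_le_of_mem le_sup_left (mem_sup_right g1))]
  exact sup_le le_sup_right ((cj_le_br g1).trans (sup_le_sup_right (commutator_mono le_sup_right le_sup_left) _))

theorem disj (h : Pre p m D) (hA : A ∈ D) (hB : B ∈ D) (k : A ≠ B) : Disjoint A (dr (A ⊔ B)) :=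
  pr_disj h.pp (h.card A hA) fun e => (h.lt hA hB k le_rfl fun j => h.na A hA B hB k
    (eq_bot_iff.2 ((dr_le _).trans j.le))).ne ((sup_eq_left.2 e).symm.trans (h.sup hA hB k))

theorem eq (h : Pre p m D) (hA : A ∈ D) (hB : B ∈ D) (k : A ≠ B) (a : U ≤ dr (A ⊔ B)) (n : A ≤ 𝒩(U))
    (hC : C ∈ D) (k' : A ≠ C) (c : C ≤ U ⊔ A) : U = dr (A ⊔ B) := by
  refine le_antisymm a fun x hx => ?_
  have e := h.gen hA hB k hA hC k' le_sup_left (c.trans (sup_le (a.trans (dr_le _)) le_sup_left))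
  obtain ⟨u, hu, y, hy, rfl⟩ := (mem_sup_nl n).1 (sup_le le_sup_right c (e.ge (dr_le _ hx)))
  rwa [disjoint_def.1 (h.disj hA hB k) hy ((mul_mem_cancel_left (a hu)).1 hx), mul_one]

/-- proper invariant subgroups are centralised -/
theorem cen (h : Pre p m D) (hA : A ∈ D) (hB : B ∈ D) (k : A ≠ B) (a : U < dr (A ⊔ B)) (n : A ≤ 𝒩(U)) :
    U ≤ 𝒞(A) := fun u hu =>
  mem_centralizer_of_mem_normalizer_of_disjoint n ((h.disj hA hB k).mono_right a.le) hu (by_contra fun j =>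
    a.ne (h.eq hA hB k a.le n (h.inv A hA u) (fun e => j (cj_eq_iff_mem.1 e.symm))
      (cj_le_of_mem le_sup_right (mem_sup_left hu))))

theorem nk (h : Pre p m D) (hA : A ∈ D) (hB : B ∈ D) (k : A ≠ B) : ¬ dr (A ⊔ B) ≤ 𝒩(A) := fun n =>
  h.nn hA hB k (le_sup_right.trans ((h.sup hA hB k).ge.trans (sup_le n le_normalizer)))

theorem isP (h : Pre p m D) (hA : A ∈ D) (hB : B ∈ D) (k : A ≠ B) :
    ∃ q, q.Prime ∧ p ≠ q ∧ IsPGroup q (dr (A ⊔ B)) := by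
  have l := h.lt hA hB k (dr_le _) (h.na A hA B hB k)
  have c : dr (dr (A ⊔ B)) ≤ 𝒞(A ⊔ B) := cent_sup A B ▸ le_inf
    (h.cen hA hB k l (le_sup_left.trans (n_dr (n_dr le_normalizer))))
    (h.cen hB hA k.symm (sup_comm A B ▸ l) (le_sup_right.trans (n_dr (n_dr le_normalizer))))
  obtain ⟨q, hq, e⟩ : ∃ q, q.Prime ∧ pCoreOf q (dr (A ⊔ B)) = dr (A ⊔ B) := by
    by_contra! j
    refine h.nk hA hB k ((le_of_forall_isPGroup_le fun r hr P a b => (le_core_of_subnIn ?_ b).trans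
      (h.cen hA hB k (lt_of_le_of_ne (core_le _) (j r hr.out))
        (le_norm_core (le_sup_left.trans (n_dr le_normalizer))))).trans (cent_le_norm A))
    exact (SubnIn.of_le_normalizer le_sup_left (sup_le le_normalizer
      (c.trans ((cent_mono (a.trans (dr_le _))).trans (cent_le_norm _))))).trans
      (SubnIn.of_le_normalizer (sup_le a l.le) (n_of_dr le_sup_right (sup_le a l.le)))
  have hP : IsPGroup q (dr (A ⊔ B)) := e ▸ core_isP _
  refine ⟨q, hq, fun j => ?_, hP⟩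
  have := Fact.mk hq
  have n : A ≤ 𝒩(dr (A ⊔ B)) := le_sup_left.trans (n_dr le_normalizer)
  obtain ⟨g, g1, g2⟩ := SetLike.not_le_iff_exists.1 (h.nk hA hB k)
  exact h.na A hA B hB k (eq_bot_of_le_commutator hP (j ▸ pr_isP (h.card A hA)) n (h.eq hA hB k
    (commutator_le_of_le_norm n) (normalizer_commutator_ge_right _ _) (h.inv A hA g)
    (fun e => g2 (cj_eq_iff_mem.1 e.symm)) (cj_le_br g1)).ge)

theorem cd (h : Pre p m D) (hA : A ∈ D) (hB : B ∈ D) (k : A ≠ B) : p * Nat.card (dr (A ⊔ B)) = m := by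
  have := card_sup_mul_card_inf (le_sup_left.trans (n_dr le_normalizer) : A ≤ 𝒩(dr (A ⊔ B)))
  rwa [sup_comm, h.sup hA hB k, (h.disj hA hB k).eq_bot, card_bot, mul_one, h.card A hA, h.lm A hA B hB k,
    eq_comm] at this

theorem lc (h : Pre p m D) (hA : A ∈ D) (hB : B ∈ D) : ∃ k ∈ dr (A ⊔ B), cj k A = B := by
  by_cases k : A = B
  · exact ⟨1, one_mem _, k ▸ cj_one A⟩
  have := Fact.mk h.pp
  obtain ⟨q, hq, e, hP⟩ := h.isP hA hB k
  have := Fact.mk hq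
  obtain ⟨n, hn⟩ := IsPGroup.iff_card.1 hP
  have s : ∀ C ∈ D, C ≤ A ⊔ B → IsSylowIn p C (A ⊔ B) := fun C hC c => ⟨c, pr_isP (h.card C hC), fun j => by
    have e1 := card_mul_relIndex c
    rw [h.card C hC, h.lm A hA B hB k, ← h.cd hA hB k, hn, Nat.mul_right_inj h.pp.ne_zero] at e1
    exact e ((Nat.prime_dvd_prime_iff_eq h.pp hq).1 (h.pp.dvd_of_dvd_pow (e1 ▸ j)))⟩
  obtain ⟨g, g1, g2⟩ := syl_conj (s A hA le_sup_left) (s B hB le_sup_right)
  obtain ⟨w, w1, x, x1, rfl⟩ := (mem_sup_nl (le_sup_left.trans (n_dr le_normalizer))).1 ((h.sup hA hB k).ge g1)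
  exact ⟨w, w1, by rw [← g2, cj_mul, cj_eq (le_normalizer x1)]⟩

theorem ab (h : Pre p m D) (k : ∀ A ∈ D, ∀ B ∈ D, A ≠ B → dr (dr (A ⊔ B)) ≠ ⊥) (hA : A ∈ D) (n : A ≤ 𝒩(U))
    (d : Disjoint A U) (e : dr U = ⊥) : U ≤ 𝒞(A) := fun u hu => by
  refine mem_centralizer_of_mem_normalizer_of_disjoint n d hu (by_contra fun j => ?_)
  have l : A ⊔ cj u A ≤ U ⊔ A := sup_le le_sup_right (cj_le_of_mem le_sup_right (mem_sup_left hu))
  exact k A hA _ (h.inv A hA u) (fun e => j (cj_eq_iff_mem.1 e.symm))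
    (eq_bot_iff.2 ((dr_mono ((dr_mono l).trans (dr_sup_le n (pr_comm h.pp (h.card A hA))))).trans e.le))

theorem alt (h : Pre p m D) (hq : q.Prime) (pq : p ≠ q) (k : ∀ A ∈ D, ∀ B ∈ D, A ≠ B → dr (dr (A ⊔ B)) ≠ ⊥) :
    Alt q D := fun A hA Q hQ n => by
  have := Fact.mk h.pp
  have := Fact.mk hq
  have p1 : IsPGroup q ↥⁅Q, A⁆ := hQ.to_le (commutator_le_of_le_norm n)
  have nA : A ≤ 𝒩(⁅Q, A⁆) := normalizer_commutator_ge_right _ _
  have nQ : Q ≤ 𝒩(⁅Q, A⁆) := normalizer_commutator_ge_left _ _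
  have c0 : ∀ K : Subgroup G, Q ≤ 𝒩(K) → A ≤ K → ⁅Q, A⁆ ≤ K := fun K a b =>
    (commutator_mono le_rfl b).trans (commutator_le_of_le_norm' a)
  generalize ⁅Q, A⁆ = R at p1 nA nQ c0
  refine le_trans ?_ (cent_mono (le_sup_right : A ≤ R ⊔ A))
  by_contra j
  obtain ⟨i, j1, j2⟩ := exists_iter_not_le (exists_iter_eq_bot (p1.to_le (dr_le _)) p1 (n_dr le_normalizer)) j
  have l := iter_le (n_dr (le_normalizer (H := R))) i
  have n1 := le_norm_iter (n_dr nA) nA i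
  have n2 := le_norm_iter (n_dr nQ) nQ i
  generalize iterCommutator (dr R) R i = I at j1 j2 l n1 n2
  have e : ⁅⁅I, R⁆, R⁆ = ⊥ := commutator_eq_bot_iff'.2 (le_centralizer_iff.1 (j2.trans (cent_mono le_sup_left)))
  have e0 : ⁅⁅R, R⁆, I⁆ = ⊥ := commutator_commutator_eq_bot_of_rotate (by rwa [commutator_comm R I]) e
  have c := le_centralizer_iff.1 (h.ab k hA n1 (IsPGroup.disjoint_of_ne p q pq _ _ (pr_isP (h.card A hA))
    (p1.to_le (l.trans (dr_le _)))) (eq_bot_iff.2 ((commutator_mono l le_rfl).trans e0.le)))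
  exact j1 (le_centralizer_iff.1 (sup_le (c0 _ (le_norm_cent n2) c) c))

theorem hyp (h : Pre p m D) (hA : A ∈ D) (hB : B ∈ D) (k : A ≠ B) : ∃ q, Hyp p q D := by
  obtain ⟨q, hq, e, hP⟩ := h.isP hA hB k
  have := Fact.mk hq
  obtain ⟨n, hn⟩ := IsPGroup.iff_card.1 hP
  have b : ∀ C ∈ D, dr (C ⊔ C) = ⊥ := fun C hC => by
    rw [sup_idem]; exact commutator_eq_bot_iff'.2 (pr_comm h.pp (h.card C hC))
  refine ⟨q, h.pp, hq, h.p2, fun j => ?_, e, h.card, h.inv, fun C hC E hE => ?_, fun C hC E hE => h.lc hC hE,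
    h.dd.imp (fun j C hC E hE => ?_) (h.alt hq e)⟩
  · have := h.om
    rw [← h.cd hA hB k, hn, j, Nat.odd_mul, Nat.odd_pow_iff fun j' => h.na A hA B hB k
      (eq_bot_of_card_eq _ (by rw [hn, j', pow_zero]))] at this
    exact absurd this.2 (by decide)
  · by_cases j : C = E
    · rw [← j, b C hC]; exact .of_bot
    · exact .of_card (Nat.eq_of_mul_eq_mul_left h.pp.pos (((h.cd hC hE j).trans (h.cd hA hB k).symm).trans (by rw [hn])))
  · by_cases j' : C = E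
    · rw [← j', b C hC]; simp
    · exact j C hC E hE j'

end Pre

end CL.FSet
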