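/-
F-sets (S3257): the central quotient is a Frobenius group.
-/
import Cfsg.Agent.FSet.Pre

set_option autoImplicit false

open Cfsg Subgroup CL.Grp CL.Even Function
open scoped commutatorElement Pointwise

namespace CL.FSet

variable {G : Type*} [Group G] {p q : ℕ} {D : Set (Subgroup G)} {A B : Subgroup G} {g u x : G}

theorem rep {F : Type*} [Group F] (e : Nonempty (A ≃* F)) : ∃ f : F →* G, Injective f ∧ map f ⊤ = A := by
  obtain ⟨e⟩ := e
  refine ⟨A.subtype.comp e.symm.toMonoidHom, A.subtype_injective.comp e.symm.injective, ?_⟩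
  rw [← map_map, map_top_of_surjective _ e.symm.surjective, ← MonoidHom.range_eq_map, range_subtype]

namespace Hyp

theorem eq_of_norm (h : Hyp p q D) (hA : A ∈ D) (hB : B ∈ D) (n : B ≤ 𝒩(A)) : A = B := by
  obtain ⟨k, k1, k2⟩ := h.lc A hA B hB
  rw [← k2, cj_eq (sup_le le_normalizer n (dr_le _ k1))]

theorem dec_n (h : Hyp p q D) (s : Sub q D ⊤) (hA : A ∈ D) (n : g ∈ 𝒩(A)) :
    ∃ w ∈ dr ⊤ ⊓ 𝒞(A), ∃ x ∈ A, w * x = g := by
  obtain ⟨w, w1, x, x1, rfl⟩ := h.dec s.gen hA le_top (mem_top g)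
  exact ⟨w, ⟨w1, mem_centralizer_of_mem_normalizer_of_disjoint (le_top.trans (n_dr le_normalizer))
    (h.disj hA h.qp h.pq s.der) w1 ((mul_mem_cancel_right (le_normalizer x1)).1 n)⟩, x, x1, rfl⟩

variable [Finite G]

theorem sq (h : Hyp p q D) (s : Sub q D ⊤) (ha : ∀ A ∈ D, ∀ B ∈ D, dr (dr (A ⊔ B)) = ⊥) (hA : A ∈ D) (hx : x ∈ A)
    (x1 : x ≠ 1) (l : G) : ∃ k, k * x * k⁻¹ * (k * x * k⁻¹) = x * (l * x * l⁻¹) := by
  have hB := h.inv A hA l
  obtain ⟨k, k1, k2⟩ := h.lc A hA _ hB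
  obtain ⟨w, w1, a, a1, e⟩ := h.dec_n s hA (g := k⁻¹ * l) (by rw [← cj_eq_iff_mem, cj_mul, ← k2, cj_inv_cj])
  have e1 : x * (k⁻¹ * l) = k⁻¹ * l * x := e ▸ mul_mem w1.2 (h.comm hA a1) x hx
  have n : x ∈ 𝒩(dr (A ⊔ cj l A)) := n_dr le_normalizer (mem_sup_left hx)
  have x2 : x * x ≠ 1 := fun j => x1 (disjoint_def.1 (h.disj hA Nat.prime_two h.p2 (two j)) hx (mem_zpowers x))
  obtain ⟨v, hv⟩ := (Finite.injective_iff_surjective (f := fun v : dr (A ⊔ cj l A) =>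
    (⟨_, mul_mem v.2 (conj_mem (mul_mem n n) (inv_mem v.2))⟩ : dr (A ⊔ cj l A)))).1 (fun v v' j => by
      have j1 : (v : G) * (x * x * (v : G)⁻¹ * (x * x)⁻¹) = v' * (x * x * (v' : G)⁻¹ * (x * x)⁻¹) := congrArg Subtype.val j
      have j2 := le_c.1 (h.le_of_mem hA (mul_mem hx hx) x2 (mem_centralizer_singleton_iff.2
        (show x * x * ((v' : G)⁻¹ * v) = (v' : G)⁻¹ * v * (x * x) by
          calc _ = (v' : G)⁻¹ * (v' * (x * x * (v' : G)⁻¹ * (x * x)⁻¹)) * (x * x) * v := by group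
            _ = _ := by rw [← j1]; group)))
      exact Subtype.ext (inv_mul_eq_one.1 (mem_bot.1 ((ha A hA _ hB).le (h.stab (h.line hA hB) hA le_sup_left
        (mul_mem (inv_mem v'.2) v.2) (cent_le_norm A j2))))).symm)
    ⟨_, mul_mem (conj_mem n k1) (conj_mem (mul_mem n n) (inv_mem k1))⟩
  have j1 : (v : G) * (x * x * (v : G)⁻¹ * (x * x)⁻¹) = x * k * x⁻¹ * (x * x * k⁻¹ * (x * x)⁻¹) := congrArg Subtype.val hv
  refine ⟨v, ?_⟩
  calc _ = (v : G) * (x * x * (v : G)⁻¹ * (x * x)⁻¹) * (x * x) := by group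
    _ = x * k * (x * (k⁻¹ * l)) * l⁻¹ := by rw [j1]; group
    _ = _ := by rw [e1]; group

/-- the counting argument for metabelian lines -/
theorem fpf (h : Hyp p q D) (s : Sub q D ⊤) (ha : ∀ A ∈ D, ∀ B ∈ D, dr (dr (A ⊔ B)) = ⊥) (hA : A ∈ D)
    (hu : u ∈ dr ⊤ ⊓ 𝒞(A)) : u = 1 := by
  obtain ⟨x, hx, x1⟩ := h.ex hA
  set S : Set G := {y | IsConj x y}
  have cS : ∀ g, ∀ y ∈ S, g * y * g⁻¹ ∈ S := fun g y hy => IsConj.trans hy (isConj_iff.2 ⟨g, rfl⟩)
  have k1 : ∀ a ∈ S, ∀ y : S, ∃ z : S, (z : G) * z = a * y := fun a a1 y => by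
    obtain ⟨g, rfl⟩ := isConj_iff.1 a1
    obtain ⟨l, e⟩ := isConj_iff.1 (a1.symm.trans y.2)
    obtain ⟨k, e1⟩ := h.sq s ha (h.inv A hA g) (conj_mem_cj g hx) (mt conj_eq_one_iff.1 x1) l
    exact ⟨⟨_, cS k _ a1⟩, e ▸ e1⟩
  have k2 : ∀ a ∈ S, ∀ b ∈ S, ∀ y ∈ S, b⁻¹ * a * y ∈ S := fun a a1 b b1 y hy => by
    obtain ⟨z, e⟩ := k1 a a1 ⟨y, hy⟩
    choose f hf using k1 b b1
    obtain ⟨w, rfl⟩ := (Finite.injective_iff_surjective (f := f)).1
      (fun v v' j => Subtype.ext (mul_left_cancel ((hf v).symm.trans (j ▸ hf v')))) z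
    rw [mul_assoc, ← e, hf, inv_mul_cancel_left]
    exact w.2
  have xS : x ∈ S := IsConj.refl x
  have nN : (MulAction.stabilizer G S).Normal := ⟨fun n hn g => MulAction.mem_stabilizer_set.2 fun b => by
    have e := MulAction.mem_stabilizer_set.1 hn (g⁻¹ * b * g)
    simp only [smul_eq_mul] at e ⊢
    exact ⟨fun j => by simpa [mul_assoc] using cS g _ (e.1 (by simpa [mul_assoc] using cS g⁻¹ _ j)),
      fun j => by simpa [mul_assoc] using cS g _ (e.2 (by simpa [mul_assoc] using cS g⁻¹ _ j))⟩⟩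
  have l : A ≤ cmod ⊤ (MulAction.stabilizer G S) := h.le_of_mem hA (inv_mem hx) (inv_ne_one.2 x1) (mem_cmod.2
    ⟨le_normalizer_of_normal (mem_top _), fun v _ => MulAction.mem_stabilizer_set.2 fun b =>
      ⟨fun j => by simpa [commutatorElement_def, mul_assoc] using k2 _ (cS v x xS) x xS _ j,
        fun j => by simpa [commutatorElement_def, mul_assoc] using k2 x xS _ (cS v x xS) _ j⟩⟩)
  obtain ⟨g, e⟩ := isConj_iff.1 ((MulAction.mem_stabilizer_set.1 ((commutator_mono le_top le_rfl).trans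
    (commutator_le_of_le_cmod l) ((h.br s.gen hA le_top).ge hu.1)) x).2 xS)
  have e1 := h.eq_of_norm hA (h.inv A hA g) (h.le_of_mem (h.inv A hA g) (conj_mem_cj g hx) (mt conj_eq_one_iff.1 x1)
    (cent_le_norm A (e ▸ mul_mem hu.2 (h.comm hA hx))))
  have e2 : u * x ∈ A := e1.ge (by have := conj_mem_cj g hx; rwa [e] at this)
  exact disjoint_def.1 (h.disj hA h.qp h.pq s.der) ((mul_mem_cancel_right hx).1 e2) hu.1

theorem mem_center (h : Hyp p q D) (s : Sub q D ⊤) (hA : A ∈ D) (hu : u ∈ dr ⊤ ⊓ 𝒞(A)) : u ∈ center G :=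
  h.alt.elim (fun k => h.fpf s k hA hu ▸ one_mem _) fun k => mem_center_iff.2 fun g =>
    h.cen k s (h.stab s hA le_top hu.1 (cent_le_norm A hu.2)) g (mem_top g)

theorem frob (h : Hyp p q D) (e : dg D ⊤ = ⊤) (hA : A ∈ D) (hB : B ∈ D) (k : A ≠ B) :
    Odd (Nat.card (G ⧸ center G)) ∧ ∃ H : Subgroup (G ⧸ center G), IsFrobeniusComplement H := by
  have s : Sub q D ⊤ := ⟨e, main h e⟩
  have zn : A ⊔ center G ≤ 𝒩(A) := sup_le le_normalizer ((center_le_centralizer _).trans (cent_le_norm _))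
  have cm : (A.map (QuotientGroup.mk' (center G))).comap (QuotientGroup.mk' (center G)) = A ⊔ center G := by
    rw [comap_map_eq, QuotientGroup.ker_mk']
  refine ⟨(h.odd s).of_dvd_nat (by rw [card_top]; exact card_quotient_dvd_card _), A.map (QuotientGroup.mk' _), fun j => ?_,
    fun j => k (h.eq_of_norm hA hB (le_top.trans ((by rw [← cm, j, comap_top] : ⊤ ≤ A ⊔ center G).trans zn))),
    fun g hg => (eq_bot_iff_forall _).2 fun y hy => by_contra fun y1 => hg ?_⟩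
  · rw [Subgroup.map_eq_bot_iff, QuotientGroup.ker_mk'] at j
    exact k (h.eq_of_norm hA hB fun g _ => cent_le_norm A fun x hx => (mem_center_iff.1 (j hx) g).symm)
  obtain ⟨g, rfl⟩ := QuotientGroup.mk'_surjective _ g
  obtain ⟨b, b1, rfl⟩ := (map_cj (QuotientGroup.mk' (center G)) g A).ge hy.2
  obtain ⟨w, w1, a, a1, rfl⟩ := h.dec_n s hA (cj_eq_iff_mem.1 (h.eq_of_norm hA (h.inv A hA g)
    (h.le_of_mem (h.inv A hA g) b1 (fun j => y1 (by rw [j, map_one])) (zn (cm.le hy.1)))).symm)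
  exact cm.ge (mul_mem (mem_sup_right (h.mem_center s hA w1)) (mem_sup_left a1))

end Hyp

end CL.FSet
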